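import Mathlib
import Cfsg.Prelude.Def_Sporadic_a

/-!
Bit mask model of subsets of the 24 points `GolayPt`, fast in the kernel (all numbers are `Nat`
literals below `2 ^ 24`).
-/

set_option autoImplicit false

namespace Cfsg.Agent.GolayOrbit.Basic

open Cfsg
open scoped Pointwise

/-- position of a point: residues are `0..22`, the extra point is `23`. -/
def pos : GolayPt → ℕ
  | none => 23
  | some x => x.val

/-- the point at a position. -/
def pt (n : ℕ) : GolayPt := if h : n < 23 then some (⟨n, h⟩ : Fin 23) else none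

theorem pos_lt (p : GolayPt) : pos p < 24 := by
  cases p with
  | none => decide
  | some x => exact lt_trans (ZMod.val_lt x) (by norm_num)

theorem pt_pos (p : GolayPt) : pt (pos p) = p := by
  revert p; decide

theorem pos_pt {n : ℕ} (h : n < 24) : pos (pt n) = n := by
  interval_cases n <;> rfl

theorem pos_injective : Function.Injective pos :=
  Function.LeftInverse.injective pt_pos

theorem pos_inj {p q : GolayPt} : pos p = pos q ↔ p = q := pos_injective.eq_iff

/-- positions as an equivalence. -/
def ptEquiv : Fin 24 ≃ GolayPt where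
  toFun i := pt i
  invFun p := ⟨pos p, pos_lt p⟩
  left_inv i := Fin.ext (pos_pt i.2)
  right_inv p := pt_pos p

/-- the set of points of a bit mask. -/
def ofMask (m : ℕ) : Finset GolayPt := Finset.univ.filter (fun p => m.testBit (pos p) = true)

theorem mem_ofMask {m : ℕ} {p : GolayPt} : p ∈ ofMask m ↔ m.testBit (pos p) = true := by
  simp [ofMask]

/-- the bit mask of a set of points. -/
def maskOf (s : Finset GolayPt) : ℕ := Nat.ofBits (fun i : Fin 24 => decide (pt i ∈ s))

theorem maskOf_lt (s : Finset GolayPt) : maskOf s < 2 ^ 24 := Nat.ofBits_lt_two_pow _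

theorem testBit_maskOf (s : Finset GolayPt) (p : GolayPt) :
    (maskOf s).testBit (pos p) = decide (p ∈ s) := by
  unfold maskOf
  rw [Nat.testBit_ofBits_lt _ _ (pos_lt p)]
  simp [pt_pos]

theorem ofMask_maskOf (s : Finset GolayPt) : ofMask (maskOf s) = s := by
  ext p
  rw [mem_ofMask, testBit_maskOf]
  simp

theorem eq_of_testBit_pos {m n : ℕ} (hm : m < 2 ^ 24) (hn : n < 2 ^ 24)
    (h : ∀ p : GolayPt, m.testBit (pos p) = n.testBit (pos p)) : m = n := by
  apply Nat.eq_of_testBit_eq
  intro i
  by_cases hi : i < 24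
  · have := h (pt i)
    rwa [pos_pt hi] at this
  · have hi' : 24 ≤ i := Nat.le_of_not_lt hi
    rw [Nat.testBit_lt_two_pow (lt_of_lt_of_le hm (Nat.pow_le_pow_right (by norm_num) hi')),
      Nat.testBit_lt_two_pow (lt_of_lt_of_le hn (Nat.pow_le_pow_right (by norm_num) hi'))]

theorem ofMask_inj {m n : ℕ} (hm : m < 2 ^ 24) (hn : n < 2 ^ 24) :
    ofMask m = ofMask n ↔ m = n := by
  constructor
  · intro h
    apply eq_of_testBit_pos hm hn
    intro p
    have h1 : p ∈ ofMask m ↔ p ∈ ofMask n := by rw [h]
    rw [mem_ofMask, mem_ofMask] at h1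
    exact Bool.eq_iff_iff.mpr h1
  · rintro rfl; rfl

theorem maskOf_ofMask {m : ℕ} (hm : m < 2 ^ 24) : maskOf (ofMask m) = m := by
  rw [← ofMask_inj (maskOf_lt _) hm, ofMask_maskOf]

theorem maskOf_injective : Function.Injective maskOf :=
  Function.LeftInverse.injective ofMask_maskOf

theorem ofMask_land (m n : ℕ) : ofMask (m &&& n) = ofMask m ∩ ofMask n := by
  ext p; simp [mem_ofMask]

theorem ofMask_lor (m n : ℕ) : ofMask (m ||| n) = ofMask m ∪ ofMask n := by
  ext p; simp [mem_ofMask]

theorem mem_ofMask_xor {m n : ℕ} {p : GolayPt} :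
    p ∈ ofMask (m ^^^ n) ↔ ¬ (p ∈ ofMask m ↔ p ∈ ofMask n) := by
  rw [mem_ofMask, mem_ofMask, mem_ofMask, Nat.testBit_xor]
  cases m.testBit (pos p) <;> cases n.testBit (pos p) <;> simp

theorem ofMask_two_pow_pos (p : GolayPt) : ofMask (2 ^ pos p) = {p} := by
  ext q
  rw [mem_ofMask, Nat.testBit_two_pow, Finset.mem_singleton]
  simp only [decide_eq_true_eq]
  constructor
  · intro h; exact (pos_injective h).symm
  · rintro rfl; rfl

theorem ofMask_zero : ofMask 0 = ∅ := by
  ext p; simp [mem_ofMask]

theorem maskOf_singleton (p : GolayPt) : maskOf {p} = 2 ^ pos p := by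
  rw [← ofMask_two_pow_pos, maskOf_ofMask]
  exact Nat.pow_lt_pow_right (by norm_num) (pos_lt p)

/-! ### Forcing evaluation in the kernel -/

/-- `force n f` is `f n`, but the kernel evaluates `n` to a literal before it substitutes it. -/
@[reducible] def force {α : Sort _} (n : ℕ) (f : ℕ → α) : α :=
  Nat.rec (f 0) (fun k _ => f (Nat.succ k)) n

theorem force_eq {α : Sort _} (n : ℕ) (f : ℕ → α) : force n f = f n := by
  cases n <;> rfl

/-! ### Number of points of a mask -/

/-- sum of the `k` lowest bits. -/
def bitsum (k : ℕ) : ℕ → ℕ :=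
  Nat.rec (fun _ => 0) (fun _ ih m => force m fun m => Nat.add (Nat.mod m 2) (ih (Nat.div m 2))) k

theorem bitsum_zero (m : ℕ) : bitsum 0 m = 0 := rfl

theorem bitsum_succ (k m : ℕ) : bitsum (k + 1) m = m % 2 + bitsum k (m / 2) :=
  force_eq m fun m => Nat.add (Nat.mod m 2) (bitsum k (Nat.div m 2))

theorem bitsum_eq (k m : ℕ) : bitsum k m = ∑ i ∈ Finset.range k, (m.testBit i).toNat := by
  induction k generalizing m with
  | zero => rfl
  | succ k ih =>
    rw [Finset.sum_range_succ', bitsum_succ, ih, add_comm]
    congr 1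
    · apply Finset.sum_congr rfl
      intro i _
      rw [Nat.testBit_succ]
    · rw [Nat.testBit_zero]
      rcases Nat.mod_two_eq_zero_or_one m with h | h <;> simp [h]

/-- number of ones among 12 bits. -/
def popc12 (m : ℕ) : ℕ :=
  (fun x : ℕ => Nat.mod (Nat.add (Nat.land x 0x333) (Nat.land (Nat.shiftRight x 2) 0x333)) 15)
    (Nat.sub m (Nat.land (Nat.shiftRight m 1) 0x555))

/-- number of points of a mask (number of ones among the lowest 24 bits), by a few fast kernel
operations. -/
def popc (m : ℕ) : ℕ :=
  Nat.add (popc12 (Nat.mod m 4096)) (popc12 (Nat.mod (Nat.div m 4096) 4096))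

/-- Boolean `∀ k < n, p k`, with literal arguments in the kernel. -/
def allBelow (n : ℕ) (p : ℕ → Bool) : Bool := Nat.rec true (fun k ih => cond (p k) ih false) n

theorem of_allBelow {n : ℕ} {p : ℕ → Bool} (h : allBelow n p = true) {k : ℕ} (hk : k < n) :
    p k = true := by
  induction n with
  | zero => exact absurd hk (Nat.not_lt_zero k)
  | succ n ih =>
    have h' : cond (p n) (allBelow n p) false = true := h
    rcases hp : p n with _ | _
    · rw [hp] at h'; exact absurd h' Bool.false_ne_true
    · rw [hp] at h'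
      rcases Nat.lt_succ_iff_lt_or_eq.mp hk with h1 | h1
      · exact ih h' h1
      · rw [h1]; exact hp

/-- Boolean test for the length of a list, without deep recursion in the kernel. -/
def hasLength (L : List ℕ) : ℕ → Bool :=
  List.rec (fun n => Nat.beq n 0)
    (fun _ _ ih n => force n fun n => cond (Nat.beq n 0) false (ih (Nat.sub n 1))) L

theorem length_of_hasLength {L : List ℕ} {n : ℕ} (h : hasLength L n = true) : L.length = n := by
  induction L generalizing n with
  | nil => exact (Nat.eq_of_beq_eq_true h).symm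
  | cons b bs ih =>
    have h' : cond (Nat.beq n 0) false (hasLength bs (n - 1)) = true := by
      rw [← h]
      exact (force_eq n fun n => cond (Nat.beq n 0) false (hasLength bs (Nat.sub n 1))).symm
    rcases hn : Nat.beq n 0 with _ | _
    · rw [hn] at h'
      have h1 := ih h'
      have h2 : n ≠ 0 := by
        rintro rfl
        exact absurd hn (by decide)
      rw [List.length_cons, h1]
      omega
    · rw [hn] at h'; exact absurd h' Bool.false_ne_true

theorem popc12_eq {m : ℕ} (hm : m < 4096) : popc12 m = bitsum 12 m := by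
  have h : allBelow 4096 (fun m => Nat.beq (popc12 m) (bitsum 12 m)) = true := by decide +kernel
  exact Nat.eq_of_beq_eq_true (of_allBelow h hm)

theorem popc_eq_bitsum (m : ℕ) : popc m = bitsum 24 m := by
  show popc12 (m % 4096) + popc12 (m / 4096 % 4096) = _
  rw [popc12_eq (Nat.mod_lt _ (by norm_num)), popc12_eq (Nat.mod_lt _ (by norm_num)), bitsum_eq,
    bitsum_eq, bitsum_eq, show (24 : ℕ) = 12 + 12 from rfl, Finset.sum_range_add]
  congr 1
  · apply Finset.sum_congr rfl
    intro i hi
    have h := Nat.testBit_mod_two_pow m 12 i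
    rw [show (2 : ℕ) ^ 12 = 4096 from rfl] at h
    rw [h]
    simp [Finset.mem_range.mp hi]
  · apply Finset.sum_congr rfl
    intro i hi
    have h := Nat.testBit_mod_two_pow (m / 4096) 12 i
    have h' := Nat.testBit_div_two_pow (n := 12) m i
    rw [show (2 : ℕ) ^ 12 = 4096 from rfl] at h h'
    rw [h, h', add_comm i 12]
    simp [Finset.mem_range.mp hi]

theorem card_ofMask (m : ℕ) : (ofMask m).card = popc m := by
  rw [popc_eq_bitsum, bitsum_eq, ofMask, Finset.card_filter, ← Equiv.sum_comp ptEquiv,
    Finset.sum_range]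
  apply Finset.sum_congr rfl
  intro i _
  show (if m.testBit (pos (pt i)) = true then 1 else 0) = _
  rw [pos_pt i.2]
  cases m.testBit i <;> simp

theorem card_eq_popc (s : Finset GolayPt) : s.card = popc (maskOf s) := by
  rw [← card_ofMask, ofMask_maskOf]

/-! ### `GF(2)`-linear maps given by the list of images of the single bits -/

/-- the linear map sending bit `i` to the `i`-th entry of the list. -/
def lin (L : List ℕ) : ℕ → ℕ :=
  List.rec (fun _ => 0)
    (fun b _ ih m => force m fun m => Nat.xor (Nat.mul (Nat.mod m 2) b) (ih (Nat.div m 2))) L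

theorem lin_nil (m : ℕ) : lin [] m = 0 := rfl

theorem lin_cons (b : ℕ) (bs : List ℕ) (m : ℕ) :
    lin (b :: bs) m = (m % 2 * b) ^^^ lin bs (m / 2) :=
  force_eq m fun m => Nat.xor (Nat.mul (Nat.mod m 2) b) (lin bs (Nat.div m 2))

theorem lin_zero (L : List ℕ) : lin L 0 = 0 := by
  induction L with
  | nil => rfl
  | cons b bs ih => rw [lin_cons]; simp [ih]

theorem xor_div_two (m n : ℕ) : (m ^^^ n) / 2 = (m / 2) ^^^ (n / 2) := by
  apply Nat.eq_of_testBit_eq
  intro i
  rw [Nat.testBit_xor, ← Nat.testBit_succ, ← Nat.testBit_succ, ← Nat.testBit_succ, Nat.testBit_xor]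

theorem xor_mod_two (m n : ℕ) : (m ^^^ n) % 2 = (m % 2 + n % 2) % 2 := by
  have h := Nat.testBit_xor m n 0
  rw [Nat.testBit_zero, Nat.testBit_zero, Nat.testBit_zero] at h
  rcases Nat.mod_two_eq_zero_or_one m with h1 | h1 <;>
    rcases Nat.mod_two_eq_zero_or_one n with h2 | h2 <;>
    rcases Nat.mod_two_eq_zero_or_one (m ^^^ n) with h3 | h3 <;>
    simp [h1, h2, h3] at h ⊢

theorem lin_xor (L : List ℕ) (m n : ℕ) : lin L (m ^^^ n) = lin L m ^^^ lin L n := by
  induction L generalizing m n with
  | nil => rw [lin_nil, lin_nil, lin_nil]; rfl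
  | cons b bs ih =>
    rw [lin_cons, lin_cons, lin_cons, xor_div_two, ih, xor_mod_two]
    rcases Nat.mod_two_eq_zero_or_one m with h1 | h1 <;>
      rcases Nat.mod_two_eq_zero_or_one n with h2 | h2 <;> rw [h1, h2]
    · simp
    · simp only [zero_mul, zero_add, Nat.zero_xor, one_mul, Nat.one_mod]
      ac_rfl
    · simp only [zero_mul, add_zero, Nat.zero_xor, one_mul, Nat.one_mod]
      ac_rfl
    · simp only [zero_mul, one_mul, Nat.reduceAdd, Nat.reduceMod, Nat.zero_xor]
      have : (b ^^^ lin bs (m / 2)) ^^^ (b ^^^ lin bs (n / 2)) =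
          (b ^^^ b) ^^^ (lin bs (m / 2) ^^^ lin bs (n / 2)) := by ac_rfl
      rw [this, Nat.xor_self, Nat.zero_xor]

theorem lin_lt {L : List ℕ} {k : ℕ} (hL : ∀ b ∈ L, b < 2 ^ k) (m : ℕ) : lin L m < 2 ^ k := by
  induction L generalizing m with
  | nil => exact Nat.two_pow_pos k
  | cons b bs ih =>
    rw [lin_cons]
    apply Nat.xor_lt_two_pow
    · rcases Nat.mod_two_eq_zero_or_one m with h1 | h1 <;> rw [h1]
      · simp
      · simpa using hL b (by simp)
    · exact ih (fun c hc => hL c (by simp [hc])) _

/-- A property closed under `^^^` that holds for `0` and all entries holds for all values. -/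
theorem lin_induction {L : List ℕ} {C : ℕ → Prop} (h0 : C 0)
    (hx : ∀ a b, C a → C b → C (a ^^^ b)) (hL : ∀ b ∈ L, C b) (m : ℕ) : C (lin L m) := by
  induction L generalizing m with
  | nil => exact h0
  | cons b bs ih =>
    rw [lin_cons]
    apply hx
    · rcases Nat.mod_two_eq_zero_or_one m with h1 | h1 <;> rw [h1]
      · simpa using h0
      · simpa using hL b (by simp)
    · exact ih (fun c hc => hL c (by simp [hc])) _

theorem testBit_lin_of_forall_false {L : List ℕ} {j : ℕ} (hL : ∀ b ∈ L, b.testBit j = false)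
    (m : ℕ) : (lin L m).testBit j = false := by
  apply lin_induction (C := fun a => a.testBit j = false) (by simp) _ hL
  intro a b ha hb
  simp [Nat.testBit_xor, ha, hb]

/-- If exactly one entry of `L` has bit `j`, the bit `j` of the value is the corresponding bit of
the argument. -/
theorem testBit_lin {L : List ℕ} {i j : ℕ} (hi : i < L.length) (h1 : (L[i]).testBit j = true)
    (h0 : ∀ (k : ℕ) (hk : k < L.length), k ≠ i → (L[k]).testBit j = false) (m : ℕ) :
    (lin L m).testBit j = m.testBit i := by
  induction L generalizing m i with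
  | nil => simp at hi
  | cons b bs ih =>
    rw [lin_cons, Nat.testBit_xor]
    cases i with
    | zero =>
      have hb : b.testBit j = true := by simpa using h1
      have hbs : ∀ c ∈ bs, c.testBit j = false := by
        intro c hc
        obtain ⟨k, hk, rfl⟩ := List.getElem_of_mem hc
        have := h0 (k + 1) (by simpa using hk) (by simp)
        simpa using this
      rw [testBit_lin_of_forall_false hbs]
      rcases Nat.mod_two_eq_zero_or_one m with h2 | h2 <;>
        simp [h2, hb]
    | succ i =>
      have hb : b.testBit j = false := by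
        have := h0 0 (by simp) (by simp)
        simpa using this
      rw [ih (i := i) (by simpa using hi) (by simpa using h1)
        (fun k hk hki => by
          have := h0 (k + 1) (by simpa using hk) (by simpa using hki)
          simpa using this), ← Nat.testBit_succ]
      rcases Nat.mod_two_eq_zero_or_one m with h2 | h2 <;> simp [h2, hb]

end Cfsg.Agent.GolayOrbit.Basic
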