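import Cfsg.Agent.GolayOrbit.Basic

/-!
The code `golayCode` on bit masks: `isCode m` is a fast Boolean test, `octadList` the list of the
759 octads.
-/

set_option autoImplicit false

namespace Cfsg.Agent.GolayOrbit.Code

open Cfsg Cfsg.Agent.GolayOrbit.Basic
open scoped Pointwise

/-- the word of a mask. -/
def wordOf (m : ℕ) : GolayPt → ZMod 2 := fun p => if m.testBit (pos p) = true then 1 else 0

theorem support₂_wordOf (m : ℕ) : support₂ (wordOf m) = ofMask m := by
  ext p
  rw [mem_ofMask]
  unfold support₂ wordOf
  simp

theorem wordOf_zero : wordOf 0 = 0 := by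
  funext p; simp [wordOf]

theorem wordOf_xor (m n : ℕ) : wordOf (m ^^^ n) = wordOf m + wordOf n := by
  funext p
  simp only [wordOf, Nat.testBit_xor, Pi.add_apply]
  cases m.testBit (pos p) <;> cases n.testBit (pos p) <;> decide

theorem wordOf_maskOf_support₂ (w : GolayPt → ZMod 2) : wordOf (maskOf (support₂ w)) = w := by
  funext p
  simp only [wordOf, testBit_maskOf, support₂]
  have h : ∀ x : ZMod 2, (if decide (x ≠ 0) = true then (1 : ZMod 2) else 0) = x := by decide
  simpa using h (w p)

theorem support₂_injective {v w : GolayPt → ZMod 2} (h : support₂ v = support₂ w) : v = w := by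
  rw [← wordOf_maskOf_support₂ v, h, wordOf_maskOf_support₂]

/-- masks of the words `qrWord t`. -/
def qrMasks : List ℕ :=
  [340831, 681662, 1363324, 2726648, 5453296, 2517985, 5035970, 1683333,
  3366666, 6733332, 5078057, 1767507, 3535014, 7070028, 5751449, 3114291,
  6228582, 4068557, 8137114, 7885621, 7382635, 6376663, 4364719]

theorem qrWord_eq (t : ZMod 23) : qrWord t = wordOf (qrMasks.getD t.val 0) := by
  funext p
  revert t p
  decide +kernel

theorem one_eq : (1 : GolayPt → ZMod 2) = wordOf 16777215 := by
  funext p
  revert p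
  decide +kernel

/-- a basis of the code in reduced form: entry `i` has bit `i` and no other bit below `12`. -/
def rows : List ℕ :=
  [13062145, 4845570, 13938692, 7221256, 10170384, 11952160, 15515712, 2019456,
  4038912, 8077824, 11654144, 14919680]

/-- a basis consisting of generators. -/
def genRows : List ℕ :=
  [340831, 681662, 1363324, 2726648, 5453296, 2517985, 5035970, 1683333,
  3366666, 6733332, 5078057, 16777215]

/-- the entries of `rows` in terms of `genRows`. -/
def rowSel : List ℕ :=
  [3753, 280, 3225, 1400, 3770, 3991, 3533, 2000,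
  1347, 101, 3683, 3621]

theorem rows_eq : rows = rowSel.map (lin genRows) := by decide +kernel

theorem genRows_mem : ∀ b ∈ genRows, wordOf b ∈ golayCode := by
  intro b hb
  simp only [genRows, List.mem_cons, List.not_mem_nil, or_false] at hb
  have hq : ∀ t : ZMod 23, wordOf (qrMasks.getD t.val 0) ∈ golayCode := fun t => by
    rw [← qrWord_eq]
    exact Submodule.subset_span (Or.inl ⟨t, rfl⟩)
  have h1 : wordOf 16777215 ∈ golayCode := by
    rw [← one_eq]
    exact Submodule.subset_span (Or.inr rfl)
  rcases hb with rfl | rfl | rfl | rfl | rfl | rfl | rfl | rfl | rfl | rfl | rfl | rfl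
  · exact hq 0
  · exact hq 1
  · exact hq 2
  · exact hq 3
  · exact hq 4
  · exact hq 5
  · exact hq 6
  · exact hq 7
  · exact hq 8
  · exact hq 9
  · exact hq 10
  · exact h1

theorem lin_mem {L : List ℕ} (hL : ∀ b ∈ L, wordOf b ∈ golayCode) (m : ℕ) :
    wordOf (lin L m) ∈ golayCode := by
  apply lin_induction (C := fun a => wordOf a ∈ golayCode) _ _ hL
  · rw [wordOf_zero]; exact golayCode.zero_mem
  · intro a b ha hb
    rw [wordOf_xor]; exact golayCode.add_mem ha hb

theorem rows_mem : ∀ b ∈ rows, wordOf b ∈ golayCode := by
  intro b hb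
  rw [rows_eq, List.mem_map] at hb
  obtain ⟨a, _, rfl⟩ := hb
  exact lin_mem genRows_mem a

theorem rows_lt : ∀ b ∈ rows, b < 2 ^ 24 := by decide

theorem lin_rows_lt (m : ℕ) : lin rows m < 2 ^ 24 := lin_lt rows_lt m

/-- membership test for codewords. -/
def isCode (m : ℕ) : Bool := Nat.beq (lin rows (Nat.mod m 4096)) m

theorem isCode_iff {m : ℕ} : isCode m = true ↔ lin rows (m % 4096) = m := by
  unfold isCode
  exact Iff.of_eq Nat.beq_eq

theorem wordOf_mem_of_isCode {m : ℕ} (h : isCode m = true) : wordOf m ∈ golayCode := by
  rw [isCode_iff] at h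
  rw [← h]
  exact lin_mem rows_mem _

theorem isCode_qrMasks : ∀ b ∈ qrMasks, isCode b = true := by decide +kernel

theorem isCode_xor {m n : ℕ} (hm : isCode m = true) (hn : isCode n = true) :
    isCode (m ^^^ n) = true := by
  rw [isCode_iff] at *
  have h : (m ^^^ n) % 4096 = (m % 4096) ^^^ (n % 4096) := by
    have := Nat.xor_mod_two_pow (a := m) (b := n) (n := 12)
    simpa using this
  rw [h, lin_xor, hm, hn]

theorem isCode_of_mem {w : GolayPt → ZMod 2} (hw : w ∈ golayCode) :
    isCode (maskOf (support₂ w)) = true := by
  induction hw using Submodule.span_induction with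
  | mem w hw =>
    rcases hw with ⟨t, rfl⟩ | hw
    · rw [qrWord_eq, support₂_wordOf]
      have hmem : ∀ t : ZMod 23, qrMasks.getD t.val 0 ∈ qrMasks := by decide
      have hlt : ∀ b ∈ qrMasks, b < 2 ^ 24 := by decide
      rw [maskOf_ofMask (hlt _ (hmem t))]
      exact isCode_qrMasks _ (hmem t)
    · rw [Set.mem_singleton_iff] at hw
      rw [hw, one_eq, support₂_wordOf, maskOf_ofMask (by norm_num)]
      decide +kernel
  | zero =>
    have : support₂ (0 : GolayPt → ZMod 2) = ofMask 0 := by
      rw [← support₂_wordOf, wordOf_zero]
    rw [this, maskOf_ofMask (by norm_num)]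
    decide +kernel
  | add v w _ _ hv hw =>
    have h : maskOf (support₂ (v + w)) = maskOf (support₂ v) ^^^ maskOf (support₂ w) := by
      apply eq_of_testBit_pos (maskOf_lt _) (Nat.xor_lt_two_pow (maskOf_lt _) (maskOf_lt _))
      intro p
      rw [Nat.testBit_xor, testBit_maskOf, testBit_maskOf, testBit_maskOf]
      simp only [support₂, Finset.mem_filter, Finset.mem_univ, true_and, Pi.add_apply]
      generalize v p = x
      generalize w p = y
      revert x y
      decide
    rw [h]
    exact isCode_xor hv hw
  | smul c w _ hw =>
    rcases (by revert c; decide : c = 0 ∨ c = 1) with rfl | rfl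
    · rw [zero_smul]
      have : support₂ (0 : GolayPt → ZMod 2) = ofMask 0 := by
        rw [← support₂_wordOf, wordOf_zero]
      rw [this, maskOf_ofMask (by norm_num)]
      decide +kernel
    · rwa [one_smul]

theorem mem_golayCode_iff (w : GolayPt → ZMod 2) :
    w ∈ golayCode ↔ isCode (maskOf (support₂ w)) = true := by
  constructor
  · exact isCode_of_mem
  · intro h
    have := wordOf_mem_of_isCode h
    rwa [wordOf_maskOf_support₂] at this

theorem wordOf_mem_iff {m : ℕ} (hm : m < 2 ^ 24) : wordOf m ∈ golayCode ↔ isCode m = true := by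
  rw [mem_golayCode_iff, support₂_wordOf, maskOf_ofMask hm]

theorem mem_supports_iff (s : Finset GolayPt) :
    s ∈ supports (golayCode : Set (GolayPt → ZMod 2)) ↔ isCode (maskOf s) = true := by
  constructor
  · rintro ⟨w, hw, rfl⟩
    exact isCode_of_mem hw
  · intro h
    refine ⟨wordOf (maskOf s), wordOf_mem_of_isCode h, ?_⟩
    rw [support₂_wordOf, ofMask_maskOf]

theorem ofMask_mem_supports_iff {m : ℕ} (hm : m < 2 ^ 24) :
    ofMask m ∈ supports (golayCode : Set (GolayPt → ZMod 2)) ↔ isCode m = true := by
  rw [mem_supports_iff, maskOf_ofMask hm]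

/-- the 4096 codewords. -/
def codeList : List ℕ := (List.range 4096).map (lin rows)

theorem lin_rows_mod {a : ℕ} (ha : a < 4096) : lin rows a % 4096 = a := by
  have h : allBelow 4096 (fun a => Nat.beq (Nat.mod (lin rows a) 4096) a) = true := by
    decide +kernel
  exact Nat.eq_of_beq_eq_true (of_allBelow h ha)

theorem mem_codeList_iff {m : ℕ} : m ∈ codeList ↔ isCode m = true := by
  unfold codeList
  rw [List.mem_map, isCode_iff]
  constructor
  · rintro ⟨a, ha, rfl⟩
    rw [List.mem_range] at ha
    rw [lin_rows_mod ha]
  · intro h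
    exact ⟨m % 4096, List.mem_range.mpr (Nat.mod_lt _ (by norm_num)), h⟩

/-- the 759 octads. -/
def octadList : List ℕ :=
  [13062145, 4845570, 9347075, 13938692, 1302533, 10305542, 5902343, 7221256, 11100169, 2605066,
  14716939, 12222476, 3416079, 10170384, 6053905, 13811730, 1413139, 5210132, 8966165, 421910,
  12656663, 16056344, 3297305, 2207772, 6832158, 11952160, 7417889, 3719203, 6475812, 10846245,
  2826278, 14176296, 2031657, 9543722, 843820, 4526126, 8536111, 2969648, 15335473, 6594610,
  11538486, 4415544, 8663097, 692282, 5275709, 15515712, 2854977, 10825794, 6447171, 3698756,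
  7438406, 8581192, 4563017, 13303882, 806987, 5652556, 9506893, 11575377, 4063314, 10698836,
  6557781, 1687640, 5255258, 663645, 8683614, 5939296, 1265762, 13893731, 9310308, 4800613,
  45159, 3444840, 14688364, 12685424, 442481, 8937586, 1384564, 2162811, 2019456, 14254209,
  5709954, 9465987, 13262980, 864389, 8622214, 4505735, 7397512, 3739786, 10768524, 6488205,
  8773776, 4370577, 13373586, 737427, 5329044, 9830549, 1613974, 2916505, 10625178, 11055264,
  14762146, 2494627, 8126628, 13009064, 118953, 4726955, 1192108, 3375280, 2121909, 1327290,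
  8978620, 15864000, 3489985, 2531524, 11010247, 10232008, 1212619, 4755660, 90318, 6889680,
  2150610, 463064, 12599513, 4485344, 8593633, 884962, 9486564, 2769128, 1577201, 4325622,
  4038912, 7622914, 11731203, 15274244, 3031301, 10543366, 5476616, 9748745, 1728778, 8855820,
  4223245, 622863, 10916112, 6406417, 2634003, 7479572, 13148440, 8474906, 4587803, 1839388,
  9158944, 5017889, 12726562, 352547, 9969957, 1474854, 2269481, 11272490, 3227948, 1110320,
  5833010, 12861748, 201013, 13721920, 1454401, 9998658, 381252, 12747077, 4989254, 7864649,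
  2232654, 4870480, 9240913, 237906, 1065303, 2384216, 6750560, 10506593, 602472, 4243818,
  2654580, 9568632, 2322816, 14950785, 6979970, 3182981, 5063048, 9048457, 307594, 13631886,
  12075408, 2425238, 1122713, 180636, 9769376, 5390753, 4301220, 545190, 926128, 8421811,
  6295992, 582081, 8798658, 4264387, 1769924, 10584520, 5538256, 8401364, 3154402, 262637,
  8077824, 12325377, 3322370, 6857221, 15073798, 2183687, 1405448, 13771273, 6062602, 12698124,
  430605, 8925710, 14709264, 2564625, 11108882, 3457556, 9323032, 4788761, 57883, 1245726,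
  13443616, 684577, 8704546, 4424227, 1675812, 5268006, 10687016, 6570537, 5640752, 9519665,
  8561204, 786999, 3678776, 9929280, 5296705, 1647171, 4403780, 8675909, 705094, 11551306,
  2949708, 832080, 4538962, 8524371, 14156372, 6455896, 2220640, 6820450, 3277413, 8946281,
  402026, 21116, 6656640, 10666625, 2908802, 11608708, 762504, 4346506, 8716939, 1589901,
  7340691, 2757268, 9474712, 4465308, 1352353, 10093218, 475812, 12587685, 2130606, 4768432,
  78514, 8999616, 5112513, 12624578, 1315526, 2110153, 1204944, 99029, 5309160, 10748656,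
  4645632, 8499969, 987906, 13124355, 9589508, 5571333, 2675464, 6365962, 1737489, 9708306,
  615188, 4231958, 10486557, 15762208, 2372388, 1053483, 4850476, 2245426, 361272, 11150144,
  2392899, 12849992, 213833, 1090380, 3216208, 1852256, 8455014, 4203377, 5780352, 1164162,
  9208708, 140167, 3539848, 12780432, 283537, 2687905, 8414120, 6308804, 525274, 168928,
  11654144, 7767041, 16262146, 6644740, 10630149, 2921478, 1618953, 9835530, 5325835, 742412,
  13370381, 4367374, 2810896, 6493202, 10765331, 3736597, 4510744, 8619033, 861210, 9462812,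
  504864, 12641313, 5129250, 8983587, 13829156, 1332261, 6915112, 2126890, 10257456, 1188915,
  4731956, 115766, 2491452, 6100032, 10110017, 1369154, 9020484, 12604486, 459847, 3351624,
  2147405, 12985424, 95313, 4752467, 1217620, 11015256, 2892897, 10650722, 8733800, 4330601,
  1573998, 7357552, 11469952, 6837377, 2204803, 3294342, 12661896, 418953, 8963210, 1410188,
  3421328, 14714004, 5899416, 5279, 1664160, 5280930, 689317, 8660134, 11535529, 8541360,
  4523185, 4441280, 8688833, 668866, 5252293, 6554826, 9503954, 804052, 2168036, 42232,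
  9204992, 4924673, 12944642, 185603, 5817604, 1127686, 14828808, 2430217, 1525008, 13636881,
  304405, 9045270, 3179802, 3806496, 6292775, 5514536, 8426796, 10560816, 542009, 6337856,
  2704706, 11797828, 951624, 8398155, 4261212, 1148257, 157028, 267634, 9610624, 1836419,
  4593028, 8471941, 2631052, 628112, 4220306, 2409888, 198058, 1070536, 2229713, 13108704,
  13276672, 902657, 8611330, 4470275, 1975812, 9471495, 10790408, 2754059, 7345676, 5350928,
  1594898, 8721940, 4343317, 3474978, 11028004, 1230376, 75309, 2135601, 12584506, 2512448,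
  14747201, 4744776, 104010, 2106966, 1312345, 9451104, 4490852, 722544, 13911680, 1250945,
  63108, 4785798, 8922769, 427666, 2180760, 6432416, 792232, 3704512, 8521420, 18147,
  3172097, 2328324, 10028808, 280334, 7079696, 145176, 4282144, 8783649, 567074, 5375810,
  530245, 8439632, 10491778, 4229001, 1050548, 337856, 14919680, 2422785, 11163650, 7145475,
  3610628, 15747077, 9279496, 4900873, 12871690, 210955, 5842956, 1103886, 7903248, 3237906,
  11282452, 2263063, 1484824, 9963547, 12720156, 346141, 5621792, 9607201, 1849378, 8484900,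
  4597797, 13142054, 7473194, 2627629, 632881, 8849458, 4216883, 1722420, 10537016, 1009728,
  13121601, 4626498, 8505411, 1869893, 9578566, 6379592, 10881097, 2664522, 9721936, 5441617,
  4253780, 596054, 12126304, 2377830, 1075305, 231532, 2242672, 4982904, 3811457, 11831426,
  2738308, 6305926, 9652360, 5511305, 8431757, 919694, 6703248, 10557585, 555160, 4294810,
  4921504, 9193633, 190626, 1116327, 2435240, 13641904, 301236, 1161408, 5785794, 12912836,
  153797, 9078992, 272595, 3147996, 6326497, 8394986, 14551296, 1661185, 5286147, 702724,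
  4409606, 8657159, 11548936, 6588684, 4536592, 8546577, 837906, 9537812, 2820376, 6842656,
  2201890, 416040, 12650793, 3410225, 10558, 3328320, 2173253, 1378634, 8931660, 14682450,
  39257, 8694112, 657763, 5249380, 12638592, 493953, 8989058, 1337732, 2115979, 1186194,
  4721045, 10619300, 1608104, 2890176, 4336072, 84464, 10021376, 13703682, 1460739, 5003780,
  9112069, 371206, 3246601, 2255372, 252432, 12880401, 4860434, 1063445, 2365978, 3050016,
  10496547, 4241960, 608810, 9701932, 6359604, 7612992, 10525252, 1710664, 4196943, 2640465,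
  8464984, 12733024, 334433, 1084018, 8796800, 4287105, 563843, 5409412, 15207048, 1903248,
  8407702, 3168928, 133817, 2296514, 314056, 535268, 10832640, 6429441, 3672838, 797449,
  8555274, 5262104, 1256224, 52005, 8919856, 4819776, 31554, 396116, 72588, 2141072,
  4459426, 9440193, 5405696, 9776129, 1805314, 8834052, 4299781, 551943, 3951624, 10554382,
  13192208, 924689, 8436754, 5508118, 6302745, 14949408, 2313249, 3189796, 9055272, 298027,
  1121336, 3152963, 6949956, 13667400, 277580, 2460752, 150618, 580704, 4271202, 8391797,
  5024896, 351362, 12717187, 9968772, 2268296, 1100945, 208020, 4213932, 2624690, 10513600,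
  593097, 1445088, 11046145, 2501890, 126216, 4726026, 1182989, 2120980, 9456930, 855332,
  4361520, 8592704, 4476225, 1584464, 7409024, 8654232, 15777, 36294, 2702848, 6344194,
  4656648, 8412681, 11669008, 560668, 5770785, 138790, 290352, 175681, 9178690, 1134148,
  2363013, 1060490, 8490656, 4202192, 1351424, 12594948, 69395, 2101096, 675712]

theorem octadList_eq : (codeList.filter fun m => Nat.beq (popc m) 8) = octadList := by
  decide +kernel

theorem mem_octads_iff (s : Finset GolayPt) : s ∈ octads ↔ maskOf s ∈ octadList := by
  rw [← octadList_eq, List.mem_filter, mem_codeList_iff, ← mem_supports_iff]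
  show s ∈ supports _ ∧ s.card = 8 ↔ _
  rw [card_eq_popc]
  exact and_congr_right fun _ => (Iff.of_eq Nat.beq_eq).symm

theorem octadList_lt : ∀ m ∈ octadList, m < 2 ^ 24 := by
  intro m hm
  rw [← octadList_eq, List.mem_filter, mem_codeList_iff, isCode_iff] at hm
  rw [← hm.1]
  exact lin_rows_lt _

theorem ofMask_mem_octads {m : ℕ} (hm : m ∈ octadList) : ofMask m ∈ octads := by
  rw [mem_octads_iff, maskOf_ofMask (octadList_lt m hm)]
  exact hm

theorem exists_of_mem_octads {s : Finset GolayPt} (hs : s ∈ octads) :
    ∃ m ∈ octadList, s = ofMask m :=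
  ⟨maskOf s, (mem_octads_iff s).mp hs, (ofMask_maskOf s).symm⟩

theorem octadList_length : octadList.length = 759 := by
  have h : hasLength octadList 759 = true := by decide +kernel
  exact length_of_hasLength h

theorem octadList_nodup : octadList.Nodup := by
  rw [← octadList_eq]
  apply List.Nodup.filter
  unfold codeList
  apply List.Nodup.of_map (fun m => m % 4096)
  rw [List.map_map]
  have h : (List.range 4096).map ((fun m => m % 4096) ∘ lin rows) = List.range 4096 := by
    conv_rhs => rw [← List.map_id (List.range 4096)]
    apply List.map_congr_left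
    intro a ha
    exact lin_rows_mod (List.mem_range.mp ha)
  rw [h]
  exact List.nodup_range

end Cfsg.Agent.GolayOrbit.Code
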