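import Cfsg.Agent.GolayOrbit.Walk

/-!
Covering walks: the set of visited objects is recorded as a bit set of keys (one big number), so
the kernel checks orbits of any size in linear time.
-/

set_option autoImplicit false

namespace Cfsg.Agent.GolayOrbit.Cover

open Cfsg Cfsg.Agent.GolayOrbit.Basic Cfsg.Agent.GolayOrbit.Code Cfsg.Agent.GolayOrbit.Walk
open scoped Pointwise

/-- the bit at a position, as a Boolean. -/
def bitAt (m i : ℕ) : Bool := Nat.beq (Nat.land (Nat.shiftRight m i) 1) 1

theorem bitAt_eq (m i : ℕ) : bitAt m i = m.testBit i := by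
  unfold bitAt
  show Nat.beq ((m >>> i) &&& 1) 1 = _
  rw [Nat.and_one_is_mod, Nat.shiftRight_eq_div_pow, Nat.testBit_eq_decide_div_mod_eq]
  rw [Bool.eq_iff_iff, decide_eq_true_eq]
  exact Iff.of_eq Nat.beq_eq

theorem bitAt_iff {m : ℕ} {p : GolayPt} : bitAt m (pos p) = true ↔ p ∈ ofMask m := by
  rw [bitAt_eq, mem_ofMask]

theorem bitAt_false_iff {m : ℕ} {p : GolayPt} : bitAt m (pos p) = false ↔ p ∉ ofMask m := by
  rw [← bitAt_iff, Bool.not_eq_true]

/-- bit set of the keys of the objects visited by a walk. -/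
def walkBits (gens : List (List ℕ)) (k : ℕ) (key : ℕ → ℕ) (w : List ℕ) : ℕ → ℕ → ℕ :=
  List.rec (fun _ B => B)
    (fun g _ ih x B => force (act (gens.getD g idTab) k x) fun y =>
      force (Nat.lor B (Nat.shiftLeft 1 (key y))) fun B' => ih y B') w

theorem walkBits_nil (gens : List (List ℕ)) (k : ℕ) (key : ℕ → ℕ) (x B : ℕ) :
    walkBits gens k key [] x B = B := rfl

theorem walkBits_cons (gens : List (List ℕ)) (k : ℕ) (key : ℕ → ℕ) (g : ℕ) (w : List ℕ) (x B : ℕ) :
    walkBits gens k key (g :: w) x B =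
      walkBits gens k key w (act (gens.getD g idTab) k x)
        (B ||| (1 <<< key (act (gens.getD g idTab) k x))) := by
  have h1 : walkBits gens k key (g :: w) x B =
    force (act (gens.getD g idTab) k x) fun y =>
      force (Nat.lor B (Nat.shiftLeft 1 (key y))) fun B' => walkBits gens k key w y B' := rfl
  rw [h1, force_eq, force_eq]
  rfl

theorem reach_step {K : Subgroup (Equiv.Perm GolayPt)} {gens : List (List ℕ)}
    (hp : ∀ P ∈ gens, isPerm P = true) (hK : ∀ P ∈ gens, perm P ∈ K) (k g x : ℕ) :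
    Reach K k x (act (gens.getD g idTab) k x) := by
  have hid : isPerm idTab = true := by decide +kernel
  by_cases hg : g < gens.length
  · rw [List.getD_eq_getElem _ _ hg]
    exact ⟨_, hK _ (List.getElem_mem hg), (comps_act (hp _ (List.getElem_mem hg)) k x).symm⟩
  · rw [List.getD_eq_default _ _ (Nat.le_of_not_lt hg)]
    refine ⟨1, K.one_mem, ?_⟩
    rw [comps_act hid]
    have h1 : perm idTab = 1 := by
      apply Equiv.ext
      intro p
      rw [perm_apply hid, Equiv.Perm.one_apply]
      revert p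
      decide +kernel
    rw [h1]

theorem of_testBit_walkBits {K : Subgroup (Equiv.Perm GolayPt)} {gens : List (List ℕ)}
    (hp : ∀ P ∈ gens, isPerm P = true) (hK : ∀ P ∈ gens, perm P ∈ K) {k : ℕ} {key : ℕ → ℕ}
    (w : List ℕ) {x₀ x B : ℕ} (hx : Reach K k x₀ x) {i : ℕ}
    (hB : B.testBit i = true → ∃ z, Reach K k x₀ z ∧ key z = i)
    (h : (walkBits gens k key w x B).testBit i = true) : ∃ z, Reach K k x₀ z ∧ key z = i := by
  induction w generalizing x B with
  | nil => exact hB h
  | cons g w ih =>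
    rw [walkBits_cons] at h
    have hstep := hx.trans (reach_step hp hK k g x)
    refine ih hstep ?_ h
    intro h1
    rw [Nat.testBit_lor, Nat.one_shiftLeft, Nat.testBit_two_pow, Bool.or_eq_true,
      decide_eq_true_eq] at h1
    rcases h1 with h1 | h1
    · exact hB h1
    · exact ⟨_, hstep, h1⟩

/-- Boolean check: all generators are elements of `M24` fixing the masks of `fixed`, and the walk
reaches the keys of all targets. -/
def covers (fixed : List ℕ) (gens : List (List ℕ)) (k : ℕ) (key : ℕ → ℕ) (w : List ℕ) (x : ℕ)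
    (targets : List ℕ) : Bool :=
  cond (allB (good fixed) gens)
    (force (walkBits gens k key w x (Nat.shiftLeft 1 (key x)))
      fun B => allB (fun y => bitAt B (key y)) targets) false

theorem exists_of_covers {fixed : List ℕ} {gens : List (List ℕ)} {k : ℕ} {key : ℕ → ℕ}
    {w : List ℕ} {x : ℕ} {targets : List ℕ} (h : covers fixed gens k key w x targets = true)
    {y : ℕ} (hy : y ∈ targets) : ∃ z, Reach (fixing fixed) k x z ∧ key z = key y := by
  obtain ⟨h1, h2⟩ := and_of_cond h
  rw [force_eq] at h2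
  have h3 := of_allB h2 hy
  rw [bitAt_eq] at h3
  refine of_testBit_walkBits (fun P hP => isPerm_of_good (of_allB h1 hP))
    (fun P hP => perm_mem_fixing (of_allB h1 hP)) w (Reach.refl _ _ _) ?_ h3
  intro h4
  have h5 : (1 <<< key x).testBit (key y) = true := h4
  rw [Nat.one_shiftLeft, Nat.testBit_two_pow, decide_eq_true_eq] at h5
  exact ⟨x, Reach.refl _ _ _, h5⟩

/-! ### Codewords: the key is the number formed by the lowest 12 bits -/

/-- key of a codeword. -/
def key1 (x : ℕ) : ℕ := Nat.mod x 4096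

theorem reach_code {K : Subgroup (Equiv.Perm GolayPt)} (hK : K ≤ M24) {x y z : ℕ}
    (hx : isCode x = true) (hy : isCode y = true) (h : Reach K 1 x z) (hk : key1 z = key1 y) :
    ∃ g ∈ K, g • ofMask x = ofMask y := by
  have lt_of_isCode : ∀ {m : ℕ}, isCode m = true → m < 2 ^ 24 := by
    intro m hm
    rw [isCode_iff] at hm
    rw [← hm]
    exact lin_rows_lt _
  obtain ⟨g, hg, h⟩ := h
  refine ⟨g, hg, ?_⟩
  have hx' : x < 16777216 := lt_of_isCode hx
  have h1 : g • ofMask x = ofMask (z % 16777216) := by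
    simpa [comps_succ, comps_zero, Nat.mod_eq_of_lt hx'] using h
  have hlt : z % 16777216 < 2 ^ 24 := Nat.mod_lt _ (by norm_num)
  have h2 : isCode (z % 16777216) = true := by
    rw [← ofMask_mem_supports_iff hlt, ← h1,
      smul_mem_supports_iff (hK hg), ofMask_mem_supports_iff (lt_of_isCode hx)]
    exact hx
  rw [h1]
  congr 1
  rw [isCode_iff] at h2 hy
  rw [← h2, ← hy]
  have h3 : z % 16777216 % 4096 = z % 4096 := Nat.mod_mod_of_dvd _ (by norm_num)
  have h4 : z % 4096 = y % 4096 := hk
  rw [h3, h4]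

/-- `K`-orbits of codewords: if the walk covers the list, it lies in one orbit. -/
theorem exists_of_covers_code {fixed : List ℕ} {gens : List (List ℕ)} {w : List ℕ} {x : ℕ}
    {targets : List ℕ} (h : covers fixed gens 1 key1 w x targets = true) (hx : isCode x = true)
    {y : ℕ} (hy : y ∈ targets) (hyc : isCode y = true) :
    ∃ g ∈ fixing fixed, g • ofMask x = ofMask y := by
  obtain ⟨z, hz, hk⟩ := exists_of_covers h hy
  exact reach_code (fun g hg => (mem_fixing.mp hg).1) hx hyc hz hk

/-! ### Ordered pairs of points -/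

/-- key of a pair of single bits. -/
def key2 (x : ℕ) : ℕ :=
  Nat.add (Nat.mul 24 (Nat.log2 (Nat.mod x 16777216)))
    (Nat.log2 (Nat.mod (Nat.div x 16777216) 16777216))

theorem smul_singleton_eq {g : Equiv.Perm GolayPt} {p q : GolayPt}
    (h : g • ({p} : Finset GolayPt) = {q}) : g p = q := by
  rw [Finset.smul_finset_singleton] at h
  exact Finset.singleton_injective h

theorem two_pow_pos_lt (p : GolayPt) : 2 ^ pos p < 16777216 := by
  have h : 2 ^ pos p < 2 ^ 24 := Nat.pow_lt_pow_right (by norm_num) (pos_lt p)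
  exact h

theorem mod_pair (p q : GolayPt) :
    (2 ^ pos p + 16777216 * 2 ^ pos q) % 16777216 = 2 ^ pos p := by
  rw [Nat.add_mul_mod_self_left, Nat.mod_eq_of_lt (two_pow_pos_lt p)]

theorem div_pair (p q : GolayPt) :
    (2 ^ pos p + 16777216 * 2 ^ pos q) / 16777216 = 2 ^ pos q := by
  rw [Nat.add_mul_div_left _ _ (by norm_num), Nat.div_eq_of_lt (two_pow_pos_lt p), zero_add]

theorem key2_pair (p q : GolayPt) :
    key2 (2 ^ pos p + 16777216 * 2 ^ pos q) = 24 * pos p + pos q := by
  show 24 * Nat.log2 (_ % 16777216) + Nat.log2 (_ / 16777216 % 16777216) = _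
  rw [mod_pair, div_pair, Nat.mod_eq_of_lt (two_pow_pos_lt q), Nat.log2_two_pow, Nat.log2_two_pow]

theorem ofMask_eq_singleton {m : ℕ} (hm : m < 2 ^ 24) {p : GolayPt} (h : {p} = ofMask m) :
    m = 2 ^ pos p := by
  rw [← ofMask_two_pow_pos, ofMask_inj (two_pow_pos_lt p) hm] at h
  exact h.symm

theorem reach_pair {K : Subgroup (Equiv.Perm GolayPt)} {p q p' q' : GolayPt} {z : ℕ}
    (h : Reach K 2 (2 ^ pos p + 16777216 * 2 ^ pos q) z)
    (hk : key2 z = key2 (2 ^ pos p' + 16777216 * 2 ^ pos q')) : ∃ g ∈ K, g p = p' ∧ g q = q' := by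
  obtain ⟨g, hg, h⟩ := h
  refine ⟨g, hg, ?_⟩
  rw [key2_pair] at hk
  simp only [comps_succ, comps_zero, mod_pair, div_pair, Nat.mod_eq_of_lt (two_pow_pos_lt q),
    List.map_cons, List.map_nil, ofMask_two_pow_pos, Finset.smul_finset_singleton,
    List.cons.injEq, and_true] at h
  obtain ⟨h1, h2⟩ := h
  have h1' : z % 16777216 = 2 ^ pos (g • p) :=
    ofMask_eq_singleton (Nat.mod_lt _ (by norm_num)) h1
  have h2' : z / 16777216 % 16777216 = 2 ^ pos (g • q) :=
    ofMask_eq_singleton (Nat.mod_lt _ (by norm_num)) h2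
  have hk' : 24 * Nat.log2 (z % 16777216) + Nat.log2 (z / 16777216 % 16777216) =
      24 * pos p' + pos q' := hk
  rw [h1', h2', Nat.log2_two_pow, Nat.log2_two_pow] at hk'
  have b1 := pos_lt (g • p)
  have b2 := pos_lt (g • q)
  have b3 := pos_lt p'
  have b4 := pos_lt q'
  exact ⟨pos_injective (by show pos (g • p) = pos p'; omega),
    pos_injective (by show pos (g • q) = pos q'; omega)⟩

/-- pairs of points: if the walk covers the pair, it is the image of the start pair. -/
theorem exists_of_covers_pair {fixed : List ℕ} {gens : List (List ℕ)} {w : List ℕ}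
    {p q p' q' : GolayPt} {targets : List ℕ}
    (h : covers fixed gens 2 key2 w (2 ^ pos p + 16777216 * 2 ^ pos q) targets = true)
    (hy : 2 ^ pos p' + 16777216 * 2 ^ pos q' ∈ targets) :
    ∃ g ∈ fixing fixed, g p = p' ∧ g q = q' := by
  obtain ⟨z, hz, hk⟩ := exists_of_covers h hy
  exact reach_pair hz hk

/-- the list of packed pairs of single bits satisfying a Boolean test. -/
def pairList (b : ℕ → ℕ → Bool) : List ℕ :=
  ((List.range 24).flatMap fun i => ((List.range 24).filter (b i)).map fun j =>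
    2 ^ i + 16777216 * 2 ^ j)

theorem mem_pairList {b : ℕ → ℕ → Bool} {p q : GolayPt} (h : b (pos p) (pos q) = true) :
    2 ^ pos p + 16777216 * 2 ^ pos q ∈ pairList b := by
  unfold pairList
  rw [List.mem_flatMap]
  refine ⟨pos p, List.mem_range.mpr (pos_lt p), ?_⟩
  rw [List.mem_map]
  exact ⟨pos q, List.mem_filter.mpr ⟨List.mem_range.mpr (pos_lt q), h⟩, rfl⟩

/-! ### Counting octads -/

/-- number of octads with a property, from a Boolean test on masks. -/
theorem ncard_octads_filter {C : Finset GolayPt → Prop} (b : ℕ → Bool)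
    (h : ∀ m ∈ octadList, (C (ofMask m) ↔ b m = true)) {n : ℕ}
    (hn : hasLength (octadList.filter b) n = true) : {x | x ∈ octads ∧ C x}.ncard = n := by
  have h1 : {x | x ∈ octads ∧ C x} = ofMask '' (↑(octadList.filter b).toFinset : Set ℕ) := by
    ext x
    simp only [Set.mem_ofPred_eq, Set.mem_image, Finset.mem_coe, List.mem_toFinset, List.mem_filter]
    constructor
    · rintro ⟨hx, hC⟩
      obtain ⟨m, hm, rfl⟩ := exists_of_mem_octads hx
      exact ⟨m, ⟨hm, (h m hm).mp hC⟩, rfl⟩
    · rintro ⟨m, ⟨hm, hb⟩, rfl⟩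
      exact ⟨ofMask_mem_octads hm, (h m hm).mpr hb⟩
  rw [h1, Set.InjOn.ncard_image, Set.ncard_coe_finset, List.toFinset_card_of_nodup,
    length_of_hasLength hn]
  · exact octadList_nodup.filter _
  · intro m hm n hn' hmn
    simp only [Finset.mem_coe, List.mem_toFinset, List.mem_filter] at hm hn'
    exact (ofMask_inj (octadList_lt m hm.1) (octadList_lt n hn'.1)).mp hmn

/-- a translate by an element of the group has the same number of elements. -/
theorem ncard_eq_of_smul (g : Equiv.Perm GolayPt) {A B : Set (Finset GolayPt)}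
    (h : ∀ x, x ∈ A ↔ g • x ∈ B) : A.ncard = B.ncard := by
  have h1 : B = (g • ·) '' A := by
    ext y
    rw [Set.mem_image]
    constructor
    · intro hy
      exact ⟨g⁻¹ • y, (h _).mpr (by rwa [smul_inv_smul]), smul_inv_smul g y⟩
    · rintro ⟨x, hx, rfl⟩
      exact (h x).mp hx
  rw [h1, Set.ncard_image_of_injective _ (MulAction.injective g)]

end Cfsg.Agent.GolayOrbit.Cover
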