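import Cfsg.Agent.GolayOrbit.Cover

/-!
`M24` is transitive on the octads, on octads with an ordered pair of points inside, and on octads
with a point inside and a point outside.
-/

set_option autoImplicit false

namespace Cfsg.Agent.GolayOrbit.Flags

open Cfsg Cfsg.Agent.GolayOrbit.Basic Cfsg.Agent.GolayOrbit.Code Cfsg.Agent.GolayOrbit.Walk
  Cfsg.Agent.GolayOrbit.Cover
open scoped Pointwise

/-- the standard octad: positions [0, 1, 2, 3, 4, 7, 10, 12]. -/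
def O₀ : ℕ := 5279

theorem O₀_mem : O₀ ∈ octadList := by
  apply mem_of_memB; decide +kernel

theorem O₀_lt : O₀ < 2 ^ 24 := by decide

theorem isCode_O₀ : isCode O₀ = true := by decide +kernel

theorem isCode_of_mem_octadList {m : ℕ} (hm : m ∈ octadList) : isCode m = true := by
  rw [← octadList_eq, List.mem_filter, mem_codeList_iff] at hm
  exact hm.1

/-- generators of `M24` (with inverses). -/
def gensM24 : List (List ℕ) :=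
  [[2, 4, 8, 16, 32, 64, 128, 256,
    512, 1024, 2048, 4096, 8192, 16384, 32768, 65536,
    131072, 262144, 524288, 1048576, 2097152, 4194304, 1, 8388608],
   [8388608, 4194304, 2048, 32768, 131072, 512, 524288, 8192,
    1048576, 32, 65536, 4, 2097152, 128, 262144, 8,
    1024, 16, 16384, 64, 256, 4096, 2, 1],
   [1, 262144, 64, 8, 4, 2097152, 2, 32,
    65536, 4096, 128, 524288, 256, 512, 131072, 32768,
    8192, 2048, 16, 4194304, 1024, 1048576, 16384, 8388608],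
   [4194304, 1, 2, 4, 8, 16, 32, 64,
    128, 256, 512, 1024, 2048, 4096, 8192, 16384,
    32768, 65536, 131072, 262144, 524288, 1048576, 2097152, 8388608],
   [1, 64, 16, 8, 262144, 128, 4, 1024,
    4096, 8192, 1048576, 131072, 512, 65536, 4194304, 32768,
    256, 16384, 2, 2048, 2097152, 32, 524288, 8388608]]

/-- a walk through the 759 octads. -/
def walkOctads : List ℕ :=
  [0, 2, 0, 2, 0, 1, 2, 1, 2, 1, 0, 1, 2, 1, 3, 4, 1, 2, 2, 1, 3, 2, 1, 4, 0, 1, 4, 1, 3, 3, 3, 1, 2, 1, 2, 1, 3, 3, 4, 0,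
  0, 1, 2, 1, 3, 1, 3, 2, 3, 2, 0, 1, 0, 1, 4, 1, 3, 2, 0, 1, 0, 1, 2, 1, 0, 1, 4, 4, 0, 2, 1, 4, 4, 1, 0, 1, 3, 1, 2, 0,
  1, 3, 3, 4, 0, 1, 2, 1, 0, 2, 3, 2, 3, 2, 3, 1, 2, 0, 0, 4, 0, 4, 0, 0, 1, 0, 1, 0, 0, 1, 0, 2, 0, 4, 1, 2, 0, 2, 2, 1,
  2, 1, 2, 1, 0, 4, 0, 0, 2, 0, 2, 1, 0, 1, 0, 4, 0, 0, 1, 2, 0, 1, 0, 4, 0, 4, 0, 1, 4, 1, 3, 1, 4, 1, 4, 1, 0, 2, 3, 1,
  0, 2, 2, 0, 1, 4, 4, 1, 3, 1, 0, 1, 2, 0, 1, 3, 4, 0, 1, 0, 1, 2, 1, 2, 1, 0, 4, 0, 2, 2, 1, 2, 3, 1, 3, 1, 3, 2, 0, 4,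
  4, 4, 1, 2, 0, 1, 3, 1, 2, 1, 3, 4, 4, 4, 0, 1, 4, 1, 0, 4, 0, 4, 1, 0, 4, 3, 4, 1, 2, 3, 2, 1, 3, 2, 3, 2, 1, 0, 1, 0,
  4, 0, 4, 4, 3, 4, 1, 2, 2, 1, 3, 3, 1, 4, 4, 4, 4, 1, 2, 3, 4, 0, 1, 2, 3, 1, 3, 2, 2, 1, 3, 1, 4, 4, 4, 4, 1, 2, 0, 2,
  2, 2, 2, 0, 2, 1, 4, 4, 3, 2, 1, 0, 1, 3, 2, 2, 3, 1, 4, 4, 4, 4, 1, 2, 2, 0, 4, 1, 3, 1, 0, 0, 1, 0, 0, 4, 0, 1, 2, 1,
  3, 2, 1, 4, 4, 1, 4, 4, 1, 2, 0, 0, 4, 1, 2, 3, 4, 0, 2, 1, 4, 3, 4, 4, 4, 4, 0, 2, 2, 0, 0, 1, 2, 1, 2, 0, 0, 4, 1, 2,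
  0, 0, 1, 3, 2, 1, 4, 4, 1, 0, 1, 2, 2, 2, 0, 1, 3, 2, 3, 4, 3, 1, 0, 0, 0, 1, 3, 3, 1, 2, 1, 0, 1, 0, 2, 3, 3, 2, 1, 2,
  0, 2, 1, 4, 4, 1, 4, 1, 3, 2, 1, 4, 3, 1, 0, 4, 0, 2, 1, 4, 4, 4, 4, 1, 3, 2, 0, 0, 1, 4, 1, 3, 4, 3, 2, 3, 4, 1, 4, 1,
  3, 1, 2, 1, 2, 2, 3, 1, 3, 2, 3, 4, 1, 3, 3, 3, 4, 1, 2, 2, 0, 1, 3, 2, 0, 2, 2, 1, 4, 0, 0, 2, 2, 1, 4, 4, 0, 1, 0, 4,
  0, 2, 1, 4, 4, 4, 4, 3, 1, 2, 0, 4, 1, 0, 1, 3, 1, 2, 1, 3, 3, 3, 1, 4, 4, 0, 4, 0, 2, 3, 3, 1, 2, 1, 3, 1, 0, 1, 2, 3,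
  2, 0, 1, 0, 4, 1, 2, 0, 2, 1, 3, 2, 1, 3, 4, 4, 3, 1, 4, 3, 1, 4, 0, 0, 4, 4, 3, 1, 2, 3, 3, 1, 2, 1, 0, 0, 4, 3, 3, 2,
  0, 4, 1, 4, 4, 3, 1, 4, 1, 0, 2, 0, 4, 0, 2, 1, 3, 0, 4, 3, 3, 2, 2, 1, 0, 1, 0, 1, 2, 1, 2, 3, 1, 4, 4, 4, 4, 3, 2, 0,
  1, 2, 0, 4, 1, 3, 2, 1, 4, 3, 1, 2, 1, 2, 1, 2, 1, 0, 2, 2, 0, 4, 4, 4, 4, 3, 4, 3, 2, 2, 2, 2, 3, 1, 4, 2, 0, 2, 2, 2,
  0, 4, 4, 4, 4, 0, 4, 1, 2, 0, 0, 0, 1, 4, 3, 4, 1, 2, 2, 1, 3, 4, 3, 4, 0, 0, 4, 3, 4, 3, 1, 4, 1, 4, 4, 1, 2, 3, 4, 1,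
  4, 1, 0, 0, 1, 2, 2, 3, 4, 1, 2, 0, 2, 3, 1, 0, 4, 3, 2, 1, 2, 1, 3, 1, 2, 1, 2, 1, 3, 2, 2, 1, 4, 3, 1, 3, 4, 4, 3, 1,
  4, 1, 0, 0, 0, 2, 2, 0, 0, 0, 1, 0, 2, 0, 4, 0, 0, 4, 4, 1, 4, 1, 4, 3, 2, 2, 1, 0, 4, 1, 2, 0, 0, 3, 1, 4, 4, 1, 4, 4,
  1, 2, 1, 0, 4, 3, 1, 2, 3]

theorem walkOctads_covers : covers [] gensM24 1 key1 walkOctads O₀ octadList = true := by
  decide +kernel

/-- `M24` is transitive on the octads. -/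
theorem octad_transitive {o : Finset GolayPt} (ho : o ∈ octads) : ∃ g ∈ M24, g • ofMask O₀ = o := by
  obtain ⟨m, hm, rfl⟩ := exists_of_mem_octads ho
  obtain ⟨g, hg, hgm⟩ := exists_of_covers_code walkOctads_covers isCode_O₀ hm
    (isCode_of_mem_octadList hm)
  exact ⟨g, (mem_fixing.mp hg).1, hgm⟩

/-- generators of the stabiliser of the standard octad (with inverses). -/
def gensOct : List (List ℕ) :=
  [[1024, 8, 1, 2, 16, 1048576, 32768, 4,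
    8388608, 262144, 128, 2048, 4096, 524288, 65536, 8192,
    256, 4194304, 512, 64, 131072, 2097152, 32, 16384],
   [16, 1, 2, 128, 4, 32, 2097152, 1024,
    2048, 512, 4096, 1048576, 8, 65536, 32768, 64,
    8192, 256, 524288, 262144, 131072, 16384, 4194304, 8388608],
   [4, 8, 128, 2, 16, 4194304, 524288, 1024,
    65536, 262144, 1, 2048, 4096, 32768, 8388608, 64,
    16384, 1048576, 512, 8192, 32, 2097152, 131072, 256],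
   [2, 4, 16, 4096, 1, 32, 32768, 8,
    131072, 512, 128, 256, 1024, 65536, 2097152, 16384,
    8192, 1048576, 524288, 262144, 2048, 64, 4194304, 8388608]]

/-- a walk through the ordered pairs of points of the standard octad. -/
def walkIn : List ℕ :=
  [0, 0, 0, 3, 3, 3, 0, 3, 3, 2, 2, 2, 1, 0, 3, 3, 0, 1, 2, 3, 0, 1, 0, 1, 1, 2, 1, 2, 1, 2, 3, 0, 3, 2, 1, 2, 1, 1, 1, 2,
  1, 0, 1, 2, 1, 1, 2, 2, 2, 1, 2, 3, 2, 1, 2]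

/-- a walk through the pairs of a point in and a point out of the standard octad. -/
def walkInOut : List ℕ :=
  [1, 2, 1, 1, 1, 2, 3, 0, 3, 2, 1, 2, 1, 2, 3, 2, 3, 3, 3, 2, 3, 2, 3, 0, 3, 0, 3, 0, 3, 0, 3, 3, 3, 0, 3, 2, 1, 3, 2, 2,
  1, 2, 3, 0, 0, 0, 3, 2, 1, 3, 2, 2, 3, 0, 0, 0, 1, 0, 1, 1, 1, 2, 3, 0, 3, 0, 1, 2, 1, 2, 3, 0, 0, 3, 3, 0, 3, 3, 2, 1,
  0, 1, 1, 1, 2, 1, 2, 3, 0, 1, 0, 0, 0, 1, 1, 2, 1, 2, 3, 0, 0, 3, 2, 3, 0, 0, 0, 1, 2, 1, 0, 3, 0, 0, 3, 2, 2, 1, 0, 0,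
  0, 3, 2, 1, 1, 1, 2, 2, 1, 1]

/-- base point in the standard octad. -/
def p₀ : GolayPt := some 0
/-- second base point in the standard octad. -/
def q₀ : GolayPt := some 1
/-- base point outside the standard octad. -/
def q₁ : GolayPt := some 5

/-- Boolean test: two different positions in the standard octad. -/
def inIn (i j : ℕ) : Bool :=
  cond (bitAt O₀ i) (cond (bitAt O₀ j) (cond (Nat.beq i j) false true) false) false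

/-- Boolean test: a position in the standard octad and a position outside. -/
def inOut (i j : ℕ) : Bool :=
  cond (bitAt O₀ i) (cond (bitAt O₀ j) false true) false

theorem walkIn_covers :
    covers [O₀] gensOct 2 key2 walkIn (2 ^ pos p₀ + 16777216 * 2 ^ pos q₀) (pairList inIn) = true := by
  decide +kernel

theorem walkInOut_covers :
    covers [O₀] gensOct 2 key2 walkInOut (2 ^ pos p₀ + 16777216 * 2 ^ pos q₁) (pairList inOut) =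
      true := by
  decide +kernel

/-- the stabiliser of the standard octad is transitive on ordered pairs of its points. -/
theorem flagIn₀ {p q : GolayPt} (hp : p ∈ ofMask O₀) (hq : q ∈ ofMask O₀) (hpq : p ≠ q) :
    ∃ g ∈ M24, g • ofMask O₀ = ofMask O₀ ∧ g p₀ = p ∧ g q₀ = q := by
  have h3 : Nat.beq (pos p) (pos q) = false := by
    rcases h : Nat.beq (pos p) (pos q) with _ | _
    · rfl
    · exact absurd (pos_injective (Nat.eq_of_beq_eq_true h)) hpq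
  have h4 : inIn (pos p) (pos q) = true := by
    unfold inIn
    rw [bitAt_iff.mpr hp, bitAt_iff.mpr hq, h3]
    rfl
  obtain ⟨g, hg, hg1, hg2⟩ := exists_of_covers_pair walkIn_covers (mem_pairList h4)
  exact ⟨g, (mem_fixing.mp hg).1, (mem_fixing.mp hg).2 _ (List.mem_singleton.mpr rfl), hg1, hg2⟩

/-- the stabiliser of the standard octad is transitive on pairs of a point in and a point out. -/
theorem flagInOut₀ {p q : GolayPt} (hp : p ∈ ofMask O₀) (hq : q ∉ ofMask O₀) :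
    ∃ g ∈ M24, g • ofMask O₀ = ofMask O₀ ∧ g p₀ = p ∧ g q₁ = q := by
  have h4 : inOut (pos p) (pos q) = true := by
    unfold inOut
    rw [bitAt_iff.mpr hp, bitAt_false_iff.mpr hq]
    rfl
  obtain ⟨g, hg, hg1, hg2⟩ := exists_of_covers_pair walkInOut_covers (mem_pairList h4)
  exact ⟨g, (mem_fixing.mp hg).1, (mem_fixing.mp hg).2 _ (List.mem_singleton.mpr rfl), hg1, hg2⟩

/-- `M24` is transitive on octads with an ordered pair of points inside. -/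
theorem flagIn {o : Finset GolayPt} (ho : o ∈ octads) {p q : GolayPt} (hp : p ∈ o) (hq : q ∈ o)
    (hpq : p ≠ q) : ∃ g ∈ M24, g • ofMask O₀ = o ∧ g p₀ = p ∧ g q₀ = q := by
  obtain ⟨g, hg, rfl⟩ := octad_transitive ho
  have hp' : g⁻¹ • p ∈ ofMask O₀ := Finset.inv_smul_mem_iff.mpr hp
  have hq' : g⁻¹ • q ∈ ofMask O₀ := Finset.inv_smul_mem_iff.mpr hq
  obtain ⟨h, hh, h1, h2, h3⟩ := flagIn₀ hp' hq' (fun he => hpq (MulAction.injective g⁻¹ he))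
  refine ⟨g * h, M24.mul_mem hg hh, ?_, ?_, ?_⟩
  · rw [mul_smul, h1]
  · rw [Equiv.Perm.mul_apply, h2]; exact smul_inv_smul g p
  · rw [Equiv.Perm.mul_apply, h3]; exact smul_inv_smul g q

/-- `M24` is transitive on octads with a point inside and a point outside. -/
theorem flagInOut {o : Finset GolayPt} (ho : o ∈ octads) {p q : GolayPt} (hp : p ∈ o)
    (hq : q ∉ o) : ∃ g ∈ M24, g • ofMask O₀ = o ∧ g p₀ = p ∧ g q₁ = q := by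
  obtain ⟨g, hg, rfl⟩ := octad_transitive ho
  have hp' : g⁻¹ • p ∈ ofMask O₀ := Finset.inv_smul_mem_iff.mpr hp
  have hq' : g⁻¹ • q ∉ ofMask O₀ := fun h => hq (Finset.inv_smul_mem_iff.mp h)
  obtain ⟨h, hh, h1, h2, h3⟩ := flagInOut₀ hp' hq'
  refine ⟨g * h, M24.mul_mem hg hh, ?_, ?_, ?_⟩
  · rw [mul_smul, h1]
  · rw [Equiv.Perm.mul_apply, h2]; exact smul_inv_smul g p
  · rw [Equiv.Perm.mul_apply, h3]; exact smul_inv_smul g q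

end Cfsg.Agent.GolayOrbit.Flags
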