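import Cfsg.Agent.GolayOrbit.Flags

/-!
The stabiliser of an octad, a point of it and a point outside: orbits on the octads through the
first point avoiding the second.
-/

set_option autoImplicit false

namespace Cfsg.Agent.GolayOrbit.Heptads

open Cfsg Cfsg.Agent.GolayOrbit.Basic Cfsg.Agent.GolayOrbit.Code Cfsg.Agent.GolayOrbit.Walk
  Cfsg.Agent.GolayOrbit.Cover Cfsg.Agent.GolayOrbit.Flags
open scoped Pointwise

/-- generators of the stabiliser of the standard octad, `p₀` and `q₁`. -/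
def gensH : List (List ℕ) :=
  [[1, 1024, 8, 16, 128, 32, 65536, 2,
    64, 8388608, 4096, 32768, 4, 8192, 524288, 512,
    262144, 256, 2097152, 1048576, 2048, 4194304, 131072, 16384],
   [1, 16, 8, 4, 4096, 32, 131072, 2,
    16384, 8192, 1024, 64, 128, 512, 1048576, 2048,
    65536, 32768, 8388608, 262144, 2097152, 256, 524288, 4194304],
   [1, 128, 4096, 4, 8, 32, 256, 16,
    131072, 32768, 2, 1048576, 1024, 8192, 8388608, 2048,
    64, 4194304, 65536, 16384, 524288, 262144, 2097152, 512],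
   [1, 128, 8, 4, 2, 32, 2048, 4096,
    2097152, 8192, 1024, 32768, 16, 512, 256, 131072,
    65536, 64, 524288, 4194304, 16384, 1048576, 8388608, 262144]]

/-- Boolean test: contains `p₀`, avoids `q₁`. -/
def test0 (m : ℕ) : Bool :=
  cond (bitAt m 0) (cond (bitAt m 5) false true) false

/-- Boolean test: contains `p₀`, avoids `q₁` and meets the standard octad in `c` points. -/
def test (c m : ℕ) : Bool :=
  cond (bitAt m 0) (cond (bitAt m 5) false (Nat.beq (popc (Nat.land O₀ m)) c)) false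

theorem test0_iff {m : ℕ} : test0 m = true ↔ p₀ ∈ ofMask m ∧ q₁ ∉ ofMask m := by
  have h1 : bitAt m 0 = true ↔ p₀ ∈ ofMask m := bitAt_iff (p := p₀)
  have h2 : bitAt m 5 = true ↔ q₁ ∈ ofMask m := bitAt_iff (p := q₁)
  rw [← h1, ← h2]
  unfold test0
  cases bitAt m 0 <;> cases bitAt m 5 <;> simp

theorem test_iff {c m : ℕ} : test c m = true ↔
    (p₀ ∈ ofMask m ∧ q₁ ∉ ofMask m) ∧ (ofMask O₀ ∩ ofMask m).card = c := by
  rw [← ofMask_land, card_ofMask]
  have h1 : bitAt m 0 = true ↔ p₀ ∈ ofMask m := bitAt_iff (p := p₀)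
  have h2 : bitAt m 5 = true ↔ q₁ ∈ ofMask m := bitAt_iff (p := q₁)
  have h3 : Nat.beq (popc (Nat.land O₀ m)) c = true ↔ popc (O₀ &&& m) = c := Iff.of_eq Nat.beq_eq
  rw [← h1, ← h2, ← h3]
  unfold test
  cases bitAt m 0 <;> cases bitAt m 5 <;> simp

theorem cover2 : covers [1, 32, O₀] gensH 1 key1
    [0, 3, 0, 3, 3, 3, 0, 1, 2, 3, 2, 2, 2, 2, 3, 0, 1, 2, 1, 0, 0, 0, 3, 0, 0, 0, 0, 3, 0, 0, 3, 0, 0, 0, 1, 0, 3, 3, 3, 2,
  1, 1, 1, 0, 3, 3, 3, 0, 1, 1, 1, 0, 0, 0, 3, 3, 3, 2, 3, 3, 3, 2, 1, 1, 1, 0, 0, 0, 0, 1, 2]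
    13062145 (octadList.filter (test 2)) = true := by
  decide +kernel

theorem cover4 : covers [1, 32, O₀] gensH 1 key1
    [1, 1, 1, 2, 3, 2, 2, 1, 2, 1, 1, 1, 2, 3, 3, 3, 2, 3, 3, 3, 2, 3, 3, 3, 0, 1, 2, 3, 3, 2, 3, 0, 3, 3, 2, 1, 2, 3, 3, 3,
  0, 3, 0, 1, 2, 3, 2, 1, 1, 1, 0, 0, 1, 2, 1, 1, 1, 0, 3, 0, 1, 2, 2, 3, 3, 3, 0, 3, 3, 3, 2, 3, 2, 1, 0, 0, 3, 3, 2, 3,
  2, 1, 0, 3, 3, 3, 2, 1, 2, 1, 1, 1, 2, 1, 1, 2, 3, 1, 0, 1, 2, 3, 0, 0, 1, 0]
    5902343 (octadList.filter (test 4)) = true := by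
  decide +kernel

theorem meets : allB (fun m => cond (bitAt m 0) (cond (bitAt m 5) true
    (cond (Nat.beq (popc (Nat.land O₀ m)) 2) true (cond (Nat.beq (popc (Nat.land O₀ m)) 4) true
      (cond (Nat.beq (popc (Nat.land O₀ m)) 8) (Nat.beq m O₀) false)))) true) octadList = true := by
  decide +kernel

theorem cases_card {m : ℕ} (hm : m ∈ octadList) (hp : p₀ ∈ ofMask m) (hq : q₁ ∉ ofMask m) :
    (ofMask O₀ ∩ ofMask m).card = 2 ∨ (ofMask O₀ ∩ ofMask m).card = 4 ∨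
      ((ofMask O₀ ∩ ofMask m).card = 8 ∧ m = O₀) := by
  rw [← ofMask_land, card_ofMask]
  have h1 : bitAt m 0 = true := (bitAt_iff (p := p₀)).mpr hp
  have h2 : bitAt m 5 = false := (bitAt_false_iff (p := q₁)).mpr hq
  have h := of_allB meets hm
  simp only [h1, h2, cond_true, cond_false] at h
  have e : ∀ c, Nat.beq (popc (Nat.land O₀ m)) c = true ↔ popc (O₀ &&& m) = c :=
    fun c => Iff.of_eq Nat.beq_eq
  rcases hc2 : Nat.beq (popc (Nat.land O₀ m)) 2 with _ | _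
  · rcases hc4 : Nat.beq (popc (Nat.land O₀ m)) 4 with _ | _
    · rw [hc2, hc4] at h
      simp only [cond_false] at h
      rcases hc8 : Nat.beq (popc (Nat.land O₀ m)) 8 with _ | _
      · rw [hc8] at h
        exact absurd h Bool.false_ne_true
      · rw [hc8] at h
        exact Or.inr (Or.inr ⟨(e 8).mp hc8, Nat.eq_of_beq_eq_true h⟩)
    · exact Or.inr (Or.inl ((e 4).mp hc4))
  · exact Or.inl ((e 2).mp hc2)

theorem base {m n : ℕ} (hm : m ∈ octadList) (hn : n ∈ octadList) (hpm : p₀ ∈ ofMask m)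
    (hqm : q₁ ∉ ofMask m) (hpn : p₀ ∈ ofMask n) (hqn : q₁ ∉ ofMask n)
    (h : (ofMask O₀ ∩ ofMask m).card = (ofMask O₀ ∩ ofMask n).card) :
    ∃ g ∈ M24, g p₀ = p₀ ∧ g q₁ = q₁ ∧ g • ofMask O₀ = ofMask O₀ ∧ g • ofMask m = ofMask n := by
  have key : ∃ g ∈ fixing [1, 32, O₀], g • ofMask m = ofMask n := by
    have two : ∀ (c x : ℕ) (w : List ℕ), covers [1, 32, O₀] gensH 1 key1 w x
        (octadList.filter (test c)) = true → isCode x = true →
        (ofMask O₀ ∩ ofMask m).card = c → (ofMask O₀ ∩ ofMask n).card = c →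
        ∃ g ∈ fixing [1, 32, O₀], g • ofMask m = ofMask n := by
      intro c x w hw hx hcm hcn
      obtain ⟨g, hg, hgm⟩ := exists_of_covers_code hw hx
        (List.mem_filter.mpr ⟨hm, test_iff.mpr ⟨⟨hpm, hqm⟩, hcm⟩⟩) (isCode_of_mem_octadList hm)
      obtain ⟨k, hk, hkn⟩ := exists_of_covers_code hw hx
        (List.mem_filter.mpr ⟨hn, test_iff.mpr ⟨⟨hpn, hqn⟩, hcn⟩⟩) (isCode_of_mem_octadList hn)
      refine ⟨k * g⁻¹, Subgroup.mul_mem _ hk (Subgroup.inv_mem _ hg), ?_⟩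
      rw [mul_smul, ← hgm, inv_smul_smul, hkn]
    rcases cases_card hm hpm hqm with h2 | h4 | ⟨h8, hmO⟩
    · exact two 2 _ _ cover2 (by decide +kernel) h2 (h ▸ h2)
    · exact two 4 _ _ cover4 (by decide +kernel) h4 (h ▸ h4)
    · rcases cases_card hn hpn hqn with h2' | h4' | ⟨_, hnO⟩
      · rw [h8, h2'] at h; exact absurd h (by norm_num)
      · rw [h8, h4'] at h; exact absurd h (by norm_num)
      · rw [hmO, hnO]
        exact ⟨1, Subgroup.one_mem _, one_smul _ _⟩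
  obtain ⟨g, hg, hgmn⟩ := key
  obtain ⟨hgM, hgf⟩ := mem_fixing.mp hg
  refine ⟨g, hgM, ?_, ?_, ?_, hgmn⟩
  · have h1 := hgf (2 ^ pos p₀) (by simp [show pos p₀ = 0 from rfl])
    rw [ofMask_two_pow_pos] at h1
    exact smul_singleton_eq h1
  · have h1 := hgf (2 ^ pos q₁) (by simp [show pos q₁ = 5 from rfl])
    rw [ofMask_two_pow_pos] at h1
    exact smul_singleton_eq h1
  · exact hgf O₀ (by simp)

theorem count {c n : ℕ} (hn : hasLength (octadList.filter (test c)) n = true) :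
    {x : Finset GolayPt | x ∈ octads ∧ (p₀ ∈ x ∧ q₁ ∉ x) ∧ (ofMask O₀ ∩ x).card = c}.ncard = n :=
  ncard_octads_filter (test c) (fun _ _ => test_iff.symm) hn

theorem count0 {n : ℕ} (hn : hasLength (octadList.filter test0) n = true) :
    {x : Finset GolayPt | x ∈ octads ∧ p₀ ∈ x ∧ q₁ ∉ x}.ncard = n :=
  ncard_octads_filter test0 (fun _ _ => test0_iff.symm) hn

end Cfsg.Agent.GolayOrbit.Heptads
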