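import Cfsg.Agent.GolayOrbit.Code

/-!
Permutations of the 24 points given by tables, membership in `M24` by a kernel check, and orbits
certified by walks in the Schreier graph.
-/

set_option autoImplicit false

namespace Cfsg.Agent.GolayOrbit.Walk

open Cfsg Cfsg.Agent.GolayOrbit.Basic Cfsg.Agent.GolayOrbit.Code
open scoped Pointwise

/-! ### Permutations given by tables -/

/-- Boolean membership of a number in a list. -/
def memB (y : ℕ) (L : List ℕ) : Bool := List.rec false (fun b _ ih => cond (Nat.beq b y) true ih) L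

theorem mem_of_memB {y : ℕ} {L : List ℕ} (h : memB y L = true) : y ∈ L := by
  induction L with
  | nil => exact absurd h Bool.false_ne_true
  | cons b bs ih =>
    have h' : cond (Nat.beq b y) true (memB y bs) = true := h
    rcases hb : Nat.beq b y with _ | _
    · rw [hb] at h'
      exact List.mem_cons_of_mem _ (ih h')
    · rw [Nat.eq_of_beq_eq_true hb]
      exact List.mem_cons_self

/-- Boolean `∀ b ∈ L, p b`. -/
def allB {α : Type} (p : α → Bool) (L : List α) : Bool :=
  List.rec true (fun b _ ih => cond (p b) ih false) L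

theorem of_allB {α : Type} {p : α → Bool} {L : List α} (h : allB p L = true) {b : α} (hb : b ∈ L) :
    p b = true := by
  induction L with
  | nil => exact absurd hb List.not_mem_nil
  | cons c bs ih =>
    have h' : cond (p c) (allB p bs) false = true := h
    rcases hp : p c with _ | _
    · rw [hp] at h'; exact absurd h' Bool.false_ne_true
    · rw [hp] at h'
      rcases List.mem_cons.mp hb with rfl | hb
      · exact hp
      · exact ih h' hb

theorem and_of_cond {a b : Bool} (h : cond a b false = true) : a = true ∧ b = true := by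
  cases a
  · exact absurd h Bool.false_ne_true
  · exact ⟨rfl, h⟩

/-- A permutation is coded by the list of the 24 masks `2 ^ i`, `i` the position of the image. -/
def isPerm (P : List ℕ) : Bool :=
  cond (hasLength P 24)
    (cond (allB (fun b => cond (Nat.beq (Nat.pow 2 (Nat.log2 b)) b) (Nat.ble (Nat.log2 b) 23) false) P)
      (allBelow 24 fun i => memB (Nat.pow 2 i) P) false) false

/-- the map of a table. -/
def tabFun (P : List ℕ) (p : GolayPt) : GolayPt := pt (Nat.log2 (P.getD (pos p) 0))

open Classical in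
/-- the permutation of a table (the identity when the table is bad). -/
noncomputable def perm (P : List ℕ) : Equiv.Perm GolayPt :=
  if h : Function.Bijective (tabFun P) then Equiv.ofBijective _ h else 1

theorem isPerm_length {P : List ℕ} (h : isPerm P = true) : P.length = 24 :=
  length_of_hasLength (and_of_cond h).1

theorem isPerm_entry {P : List ℕ} (h : isPerm P = true) {b : ℕ} (hb : b ∈ P) :
    2 ^ Nat.log2 b = b ∧ Nat.log2 b < 24 := by
  have h1 := of_allB (and_of_cond (and_of_cond h).2).1 hb
  have h2 := and_of_cond h1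
  exact ⟨Nat.eq_of_beq_eq_true h2.1, Nat.lt_succ_of_le (Nat.le_of_ble_eq_true h2.2)⟩

theorem isPerm_mem {P : List ℕ} (h : isPerm P = true) {i : ℕ} (hi : i < 24) : 2 ^ i ∈ P := by
  have h1 := (and_of_cond (and_of_cond h).2).2
  exact mem_of_memB (of_allBelow (p := fun i => memB (Nat.pow 2 i) P) h1 hi)

theorem tabFun_surjective {P : List ℕ} (h : isPerm P = true) : Function.Surjective (tabFun P) := by
  intro q
  obtain ⟨i, hi, hiq⟩ := List.getElem_of_mem (isPerm_mem h (pos_lt q))
  refine ⟨pt i, ?_⟩
  unfold tabFun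
  rw [pos_pt (by rw [isPerm_length h] at hi; exact hi), List.getD_eq_getElem _ _ hi, hiq,
    Nat.log2_two_pow, pt_pos]

theorem perm_apply {P : List ℕ} (h : isPerm P = true) (p : GolayPt) : perm P p = tabFun P p := by
  have hb : Function.Bijective (tabFun P) := Finite.surjective_iff_bijective.mp (tabFun_surjective h)
  unfold perm
  rw [dif_pos hb]
  rfl

theorem getElem_eq {P : List ℕ} (h : isPerm P = true) {i : ℕ} (hi : i < P.length) :
    P[i] = 2 ^ pos (perm P (pt i)) := by
  have hi' : i < 24 := by rw [isPerm_length h] at hi; exact hi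
  rw [perm_apply h]
  unfold tabFun
  rw [pos_pt hi', List.getD_eq_getElem _ _ hi]
  obtain ⟨h1, h2⟩ := isPerm_entry h (List.getElem_mem hi)
  rw [pos_pt h2, h1]

theorem testBit_lin_perm {P : List ℕ} (h : isPerm P = true) (m : ℕ) (p : GolayPt) :
    (lin P m).testBit (pos (perm P p)) = m.testBit (pos p) := by
  have hi : pos p < P.length := by rw [isPerm_length h]; exact pos_lt p
  apply testBit_lin hi
  · rw [getElem_eq h hi, pt_pos, Nat.testBit_two_pow_self]
  · intro k hk hkp
    rw [getElem_eq h hk, Nat.testBit_two_pow]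
    simp only [decide_eq_false_iff_not]
    intro he
    have h1 := (perm P).injective (pos_injective he)
    apply hkp
    rw [← h1, pos_pt]
    rw [isPerm_length h] at hk; exact hk

theorem perm_smul_ofMask {P : List ℕ} (h : isPerm P = true) (m : ℕ) :
    perm P • ofMask m = ofMask (lin P m) := by
  ext x
  rw [Finset.mem_smul_finset]
  constructor
  · rintro ⟨y, hy, rfl⟩
    rw [mem_ofMask] at hy ⊢
    rw [Equiv.Perm.smul_def, testBit_lin_perm h, hy]
  · intro hx
    refine ⟨(perm P).symm x, ?_, by rw [Equiv.Perm.smul_def, Equiv.apply_symm_apply]⟩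
    rw [mem_ofMask] at hx ⊢
    rw [← testBit_lin_perm h, Equiv.apply_symm_apply, hx]

theorem lin_lt_of_isPerm {P : List ℕ} (h : isPerm P = true) (m : ℕ) : lin P m < 2 ^ 24 := by
  apply lin_lt
  intro b hb
  obtain ⟨h1, h2⟩ := isPerm_entry h hb
  rw [← h1]
  exact Nat.pow_lt_pow_right (by norm_num) h2

/-! ### Membership in `M24` -/

theorem supports_finite : (supports (golayCode : Set (GolayPt → ZMod 2))).Finite := Set.toFinite _

theorem mem_M24_of_subset {g : Equiv.Perm GolayPt}
    (h : ∀ s ∈ supports (golayCode : Set (GolayPt → ZMod 2)),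
      g • s ∈ supports (golayCode : Set (GolayPt → ZMod 2))) : g ∈ M24 := by
  rw [MulAction.mem_stabilizer_iff]
  apply Set.eq_of_subset_of_ncard_le
  · rintro _ ⟨s, hs, rfl⟩
    exact h s hs
  · rw [← Set.image_smul, Set.ncard_image_of_injective _ (MulAction.injective g)]
  · exact supports_finite

theorem smul_mem_supports_iff {g : Equiv.Perm GolayPt} (hg : g ∈ M24) (s : Finset GolayPt) :
    g • s ∈ supports (golayCode : Set (GolayPt → ZMod 2)) ↔
      s ∈ supports (golayCode : Set (GolayPt → ZMod 2)) := by
  rw [MulAction.mem_stabilizer_iff] at hg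
  conv_lhs => rw [← hg]
  exact Set.smul_mem_smul_set_iff

theorem smul_mem_octads_iff {g : Equiv.Perm GolayPt} (hg : g ∈ M24) (s : Finset GolayPt) :
    g • s ∈ octads ↔ s ∈ octads := by
  show g • s ∈ supports _ ∧ (g • s).card = 8 ↔ s ∈ supports _ ∧ s.card = 8
  rw [smul_mem_supports_iff hg, Finset.card_smul_finset]

theorem smul_mem_dodecads_iff {g : Equiv.Perm GolayPt} (hg : g ∈ M24) (s : Finset GolayPt) :
    g • s ∈ dodecads ↔ s ∈ dodecads := by
  show g • s ∈ supports _ ∧ (g • s).card = 12 ↔ s ∈ supports _ ∧ s.card = 12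
  rw [smul_mem_supports_iff hg, Finset.card_smul_finset]

/-- Boolean test that a table is an element of `M24` fixing all masks of the list `fixed`. -/
def good (fixed : List ℕ) (P : List ℕ) : Bool :=
  cond (isPerm P)
    (cond (allB (fun r => isCode (lin P r)) rows)
      (allB (fun a => Nat.beq (lin P a) a) fixed) false) false

theorem isPerm_of_good {fixed P : List ℕ} (h : good fixed P = true) : isPerm P = true :=
  (and_of_cond h).1

theorem perm_mem_M24 {fixed P : List ℕ} (h : good fixed P = true) : perm P ∈ M24 := by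
  apply mem_M24_of_subset
  intro s hs
  rw [mem_supports_iff] at hs
  have hP := isPerm_of_good h
  rw [← ofMask_maskOf s, perm_smul_ofMask hP, ofMask_mem_supports_iff (lin_lt_of_isPerm hP _)]
  rw [isCode_iff] at hs
  rw [← hs]
  have h1 := (and_of_cond (and_of_cond h).2).1
  apply lin_induction (C := fun m => isCode (lin P m) = true)
  · rw [lin_zero]; decide +kernel
  · intro a b ha hb
    rw [lin_xor]
    exact isCode_xor ha hb
  · intro r hr
    exact of_allB h1 hr

theorem perm_fixed {fixed P : List ℕ} (h : good fixed P = true) {a : ℕ} (ha : a ∈ fixed) :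
    perm P • ofMask a = ofMask a := by
  rw [perm_smul_ofMask (isPerm_of_good h)]
  have h1 := (and_of_cond (and_of_cond h).2).2
  rw [Nat.eq_of_beq_eq_true (of_allB h1 ha)]

/-! ### Walks -/

/-- action on `k` masks packed in one number (24 bits each). -/
def act (P : List ℕ) (k : ℕ) : ℕ → ℕ :=
  Nat.rec (fun _ => 0) (fun _ ih x =>
    Nat.add (lin P (Nat.mod x 16777216)) (Nat.mul 16777216 (ih (Nat.div x 16777216)))) k

theorem act_zero (P : List ℕ) (x : ℕ) : act P 0 x = 0 := rfl

theorem act_succ (P : List ℕ) (k x : ℕ) :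
    act P (k + 1) x = lin P (x % 16777216) + 16777216 * act P k (x / 16777216) := rfl

/-- the `k` sets packed in one number. -/
def comps : ℕ → ℕ → List (Finset GolayPt)
  | 0, _ => []
  | k + 1, x => ofMask (x % 16777216) :: comps k (x / 16777216)

theorem comps_zero (x : ℕ) : comps 0 x = [] := rfl

theorem comps_succ (k x : ℕ) :
    comps (k + 1) x = ofMask (x % 16777216) :: comps k (x / 16777216) := rfl

theorem comps_act {P : List ℕ} (h : isPerm P = true) (k x : ℕ) :
    comps k (act P k x) = (comps k x).map (perm P • ·) := by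
  induction k generalizing x with
  | zero => rfl
  | succ k ih =>
    have h1 : lin P (x % 16777216) < 16777216 := lin_lt_of_isPerm h _
    rw [comps_succ, comps_succ, act_succ, List.map_cons]
    congr 1
    · rw [Nat.add_mul_mod_self_left, Nat.mod_eq_of_lt h1, perm_smul_ofMask h]
    · rw [← ih, Nat.add_mul_div_left _ _ (by norm_num), Nat.div_eq_of_lt h1, zero_add]

/-- the identity table. -/
def idTab : List ℕ :=
  [1, 2, 4, 8, 16, 32, 64, 128, 256, 512, 1024, 2048, 4096, 8192, 16384, 32768, 65536, 131072,
    262144, 524288, 1048576, 2097152, 4194304, 8388608]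

/-- the elements visited by the walk with steps `w` starting from `x` (pushed on `acc`). -/
def walk (gens : List (List ℕ)) (k : ℕ) (w : List ℕ) : ℕ → List ℕ → List ℕ :=
  List.rec (fun _ acc => acc)
    (fun g _ ih x acc => force (act (gens.getD g idTab) k x) fun y => ih y (y :: acc)) w

theorem walk_nil (gens : List (List ℕ)) (k x : ℕ) (acc : List ℕ) :
    walk gens k [] x acc = acc := rfl

theorem walk_cons (gens : List (List ℕ)) (k g : ℕ) (w : List ℕ) (x : ℕ) (acc : List ℕ) :
    walk gens k (g :: w) x acc =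
      walk gens k w (act (gens.getD g idTab) k x) (act (gens.getD g idTab) k x :: acc) :=
  force_eq (act (gens.getD g idTab) k x) fun y => walk gens k w y (y :: acc)

/-- `y` is the image of `x` under an element of `K` (both coding `k`-tuples of sets). -/
def Reach (K : Subgroup (Equiv.Perm GolayPt)) (k x y : ℕ) : Prop :=
  ∃ g ∈ K, (comps k x).map (g • ·) = comps k y

theorem Reach.refl (K : Subgroup (Equiv.Perm GolayPt)) (k x : ℕ) : Reach K k x x :=
  ⟨1, K.one_mem, by simp⟩

theorem Reach.trans {K : Subgroup (Equiv.Perm GolayPt)} {k x y z : ℕ} (h : Reach K k x y)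
    (h' : Reach K k y z) : Reach K k x z := by
  obtain ⟨g, hg, hxy⟩ := h
  obtain ⟨g', hg', hyz⟩ := h'
  refine ⟨g' * g, K.mul_mem hg' hg, ?_⟩
  rw [← hyz, ← hxy, List.map_map]
  apply List.map_congr_left
  intro s _
  simp [mul_smul]

theorem Reach.symm {K : Subgroup (Equiv.Perm GolayPt)} {k x y : ℕ} (h : Reach K k x y) :
    Reach K k y x := by
  obtain ⟨g, hg, hxy⟩ := h
  refine ⟨g⁻¹, K.inv_mem hg, ?_⟩
  rw [← hxy, List.map_map]
  conv_rhs => rw [← List.map_id (comps k x)]
  apply List.map_congr_left
  intro s _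
  simp

theorem reach_of_mem_walk {K : Subgroup (Equiv.Perm GolayPt)} {gens : List (List ℕ)}
    (hp : ∀ P ∈ gens, isPerm P = true) (hK : ∀ P ∈ gens, perm P ∈ K) {k : ℕ} (w : List ℕ)
    {x₀ x : ℕ} {acc : List ℕ} (hx : Reach K k x₀ x) (hacc : ∀ y ∈ acc, Reach K k x₀ y) {y : ℕ}
    (hy : y ∈ walk gens k w x acc) : Reach K k x₀ y := by
  induction w generalizing x acc with
  | nil => exact hacc y hy
  | cons g w ih =>
    rw [walk_cons] at hy
    have hstep : Reach K k x₀ (act (gens.getD g idTab) k x) := by
      refine hx.trans ?_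
      have hid : isPerm idTab = true := by decide +kernel
      by_cases hg : g < gens.length
      · rw [List.getD_eq_getElem _ _ hg]
        exact ⟨_, hK _ (List.getElem_mem hg), (comps_act (hp _ (List.getElem_mem hg)) k x).symm⟩
      · rw [List.getD_eq_default _ _ (Nat.le_of_not_lt hg)]
        refine ⟨1, K.one_mem, ?_⟩
        rw [comps_act hid]
        have h1 : perm idTab = 1 := by
          apply Equiv.ext
          intro p
          rw [perm_apply hid, Equiv.Perm.one_apply]
          revert p
          decide +kernel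
        rw [h1]
    apply ih hstep _ hy
    intro z hz
    rcases List.mem_cons.mp hz with rfl | hz
    · exact hstep
    · exact hacc z hz

/-- the subgroup of `M24` of elements fixing all masks in the list. -/
def fixing (fixed : List ℕ) : Subgroup (Equiv.Perm GolayPt) where
  carrier := {g | g ∈ M24 ∧ ∀ a ∈ fixed, g • ofMask a = ofMask a}
  one_mem' := ⟨M24.one_mem, fun a _ => one_smul _ _⟩
  mul_mem' := by
    rintro g h ⟨hg, hg'⟩ ⟨hh, hh'⟩
    refine ⟨M24.mul_mem hg hh, fun a ha => ?_⟩
    rw [mul_smul, hh' a ha, hg' a ha]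
  inv_mem' := by
    rintro g ⟨hg, hg'⟩
    refine ⟨M24.inv_mem hg, fun a ha => ?_⟩
    rw [inv_smul_eq_iff, hg' a ha]

theorem mem_fixing {fixed : List ℕ} {g : Equiv.Perm GolayPt} :
    g ∈ fixing fixed ↔ g ∈ M24 ∧ ∀ a ∈ fixed, g • ofMask a = ofMask a := Iff.rfl

theorem perm_mem_fixing {fixed P : List ℕ} (h : good fixed P = true) : perm P ∈ fixing fixed :=
  ⟨perm_mem_M24 h, fun _ ha => perm_fixed h ha⟩

/-- main tool: everything visited by a walk of good tables is reachable. -/
theorem reach_of_walk {fixed : List ℕ} {gens : List (List ℕ)} (hg : allB (good fixed) gens = true)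
    {k x : ℕ} {w : List ℕ} {y : ℕ} (hy : y ∈ walk gens k w x [x]) : Reach (fixing fixed) k x y := by
  apply reach_of_mem_walk (fun P hP => isPerm_of_good (of_allB hg hP))
    (fun P hP => perm_mem_fixing (of_allB hg hP)) w (Reach.refl _ _ _) _ hy
  intro z hz
  rw [List.mem_singleton] at hz
  rw [hz]
  exact Reach.refl _ _ _

theorem reach_one {K : Subgroup (Equiv.Perm GolayPt)} {x y : ℕ} (hx : x < 2 ^ 24) (hy : y < 2 ^ 24)
    (h : Reach K 1 x y) : ∃ g ∈ K, g • ofMask x = ofMask y := by
  obtain ⟨g, hg, h⟩ := h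
  refine ⟨g, hg, ?_⟩
  have hx' : x < 16777216 := hx
  have hy' : y < 16777216 := hy
  simpa [comps_succ, comps_zero, Nat.mod_eq_of_lt hx', Nat.mod_eq_of_lt hy'] using h

theorem reach_two {K : Subgroup (Equiv.Perm GolayPt)} {x x' y y' : ℕ} (hx : x < 2 ^ 24)
    (hx' : x' < 2 ^ 24) (hy : y < 2 ^ 24) (hy' : y' < 2 ^ 24)
    (h : Reach K 2 (x + 16777216 * x') (y + 16777216 * y')) :
    ∃ g ∈ K, g • ofMask x = ofMask y ∧ g • ofMask x' = ofMask y' := by
  obtain ⟨g, hg, h⟩ := h
  refine ⟨g, hg, ?_⟩
  have h1 : x < 16777216 := hx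
  have h2 : y < 16777216 := hy
  have h1' : x' < 16777216 := hx'
  have h2' : y' < 16777216 := hy'
  simpa [comps_succ, comps_zero, Nat.mod_eq_of_lt h1, Nat.mod_eq_of_lt h2, Nat.mod_eq_of_lt h1',
    Nat.mod_eq_of_lt h2', Nat.add_mul_mod_self_left, Nat.add_mul_div_left, Nat.div_eq_of_lt h1,
    Nat.div_eq_of_lt h2] using h

end Cfsg.Agent.GolayOrbit.Walk
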